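import Cfsg.Agent.SymEight40.ProdBasic
import Cfsg.Agent.SymEight40.SixProd

/-!
In the second case the centraliser of `u` normalises `D`.
-/

set_option autoImplicit false

open Equiv Subgroup

namespace CfsgLib.SymEight40

theorem support_conj_card {n : ℕ} (g x : Perm (Fin n)) :
    (g * x * g⁻¹).support.card = x.support.card := by
  simp [Equiv.Perm.support_conj]

namespace Config

variable {G : Type*} [Group G] [Finite G] (C : Config G)

/-- In the second case the centraliser of `u` normalises `D`. -/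
theorem centU_norm (hII : C.r = C.kH r5) :
    ∀ g, Commute g C.u → g ∈ normalizer (C.D : Set G) := by
  classical
  set L := centralizer ({C.u} : Set G) with hL
  rcases C.centU_cases with hN | ⟨π0, hπ0, hker0⟩
  · exact hN
  exfalso
  have hmem : ∀ g, g ∈ L ↔ Commute g C.u := fun g => mem_centralizer_singleton_iff
  obtain ⟨lr, hlr⟩ : ∃ x : L, (x : G) = C.r := ⟨⟨_, (hmem _).mpr (C.r_u hII)⟩, rfl⟩
  obtain ⟨ls, hls⟩ : ∃ x : L, (x : G) = C.s := ⟨⟨_, (hmem _).mpr C.s_u⟩, rfl⟩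
  obtain ⟨lz, hlz⟩ : ∃ x : L, (x : G) = C.z :=
    ⟨⟨_, (hmem _).mpr (C.D_comm_u (C.dM_mem_D 1 0))⟩, rfl⟩
  obtain ⟨lw, hlw⟩ : ∃ x : L, (x : G) = C.w :=
    ⟨⟨_, (hmem _).mpr (C.D_comm_u (C.dM_mem_D 0 1))⟩, rfl⟩
  obtain ⟨ln, hln⟩ : ∃ x : L, (x : G) = C.n := ⟨⟨_, (hmem _).mpr C.n_comm_u⟩, rfl⟩
  have r_ne : C.r ≠ 1 := by
    rw [hII]
    exact fun e => a5_facts.2.2.2.2.2.2.2.2.2.2.1 (C.kH_inj (e.trans C.kH.map_one.symm))
  have r_ne_u : C.r ≠ C.u := fun e => C.r_ne_conj_u hII 1 (by simpa using e.symm)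
  -- normalise the image of `r`
  obtain ⟨j, g0, hg0⟩ : ∃ j, ∃ g0 : Perm (Fin 6), g0 * π0 lr * g0⁻¹ = rep6 j := by
    have h1 : π0 lr ≠ 1 := fun e => by
      rcases (hker0 lr).mp e with h | h
      · exact r_ne (hlr ▸ h)
      · exact r_ne_u (hlr ▸ h)
    have h2 : π0 lr * π0 lr = 1 := by
      rw [← map_mul, ← π0.map_one]
      exact congrArg π0 (Subtype.ext (by rw [Subgroup.coe_mul, hlr]; exact C.r_sq))
    obtain ⟨j, hj⟩ := invList6_class _ (mem_invList6 _ h2 h1)
    exact ⟨j, isConj_iff.mp (Equiv.Perm.isConj_iff_cycleType_eq.mpr hj)⟩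
  set π : L →* Perm (Fin 6) := (MulAut.conj g0).toMonoidHom.comp π0 with hπdef
  have hπ : Function.Surjective π := (MulAut.conj g0).surjective.comp hπ0
  have hker : ∀ x : L, π x = 1 ↔ (x : G) = 1 ∨ (x : G) = C.u := fun x => by
    rw [← hker0]
    exact (MulAut.conj g0).map_eq_one_iff
  have hR : π lr = rep6 j := hg0
  have hQ : ∀ x : L, (π x = 1 ∨ π x = rep6 j) ↔
      ((x : G) = 1 ∨ (x : G) = C.u) ∨ ((x : G) = C.r ∨ (x : G) = C.u * C.r) := by
    intro x
    rw [hker, ← hR, ← mul_inv_eq_one (b := π lr), ← map_inv, ← map_mul, hker, Subgroup.coe_mul,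
      Subgroup.coe_inv, hlr, mul_inv_eq_one, mul_inv_eq_iff_eq_mul]
  have hcongr : ∀ x y : L, (x : G) = y → π x = π y := fun x y h => congrArg π (Subtype.ext h)
  set R := rep6 j
  set S := π ls with hS
  set Z := π lz with hZ
  set W := π lw with hW
  have hcomm : ∀ x y : L, Commute (x : G) y → π x * π y = π y * π x := fun x y h => by
    rw [← map_mul, ← map_mul]; exact congrArg π (Subtype.ext h.eq)
  have hSinv : S ∈ invList6 := by
    refine mem_invList6 _ ?_ fun e => ?_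
    · rw [hS, ← map_mul, ← π.map_one]
      exact hcongr _ _ (by rw [Subgroup.coe_mul, hls]; exact C.s_sq)
    · rcases (hker ls).mp e with h | h <;> rw [hls] at h
      · exact absurd (C.inj (h.trans C.ι.map_one.symm)) (by decide +kernel)
      · exact absurd (C.inj h) (by decide +kernel)
  have hSR : S * R = R * S := by
    rw [hS, ← hR]; exact hcomm _ _ (by rw [hls, hlr]; exact (C.r_s hII).symm)
  have hSne : S ≠ R := fun e => by
    rcases (hQ ls).mp (Or.inr e) with (h | h) | (h | h) <;> rw [hls] at h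
    · exact absurd (C.inj (h.trans C.ι.map_one.symm)) (by decide +kernel)
    · exact absurd (C.inj h) (by decide +kernel)
    · rw [hII, C.kH_apply] at h
      exact absurd (C.inj h) (by decide +kernel)
    · rw [hII, C.kH_apply, ← map_mul] at h
      exact absurd (C.inj h) (by decide +kernel)
  have hScard : S.support.card = R.support.card := by
    have : S = π ln * π lr * (π ln)⁻¹ := by
      rw [hS, ← map_inv, ← map_mul, ← map_mul]
      refine hcongr _ _ ?_
      simp only [Subgroup.coe_mul, Subgroup.coe_inv, hls, hln, hlr, C.n_inv]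
      exact (C.n_conj C.s).symm
    rw [this, hR, support_conj_card]
  have hz3 : ∀ l : L, (l : G) ∈ C.D → (l : G) ≠ 1 → π l ∈ threeList6 := fun l hl hl1 => by
    refine mem_threeList6 _ ?_ fun e => ?_
    · rw [← map_mul, ← map_mul, ← π.map_one]
      exact hcongr _ _ (by simp only [Subgroup.coe_mul]; exact C.D_cube hl)
    · rcases (hker l).mp e with h | h
      · exact hl1 h
      · have := C.D_cube (h ▸ hl)
        rw [C.u_sq, one_mul] at this
        exact C.u_ne this
  have hZ3 : Z ∈ threeList6 := hz3 lz (hlz ▸ C.dM_mem_D 1 0) (by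
    rw [hlz]; exact fun e => absurd (C.inj (e.trans C.ι.map_one.symm)) (by decide +kernel))
  have hW3 : W ∈ threeList6 := hz3 lw (hlw ▸ C.dM_mem_D 0 1) (by
    rw [hlw]; exact fun e => absurd (C.inj (e.trans C.ι.map_one.symm)) (by decide +kernel))
  have hZR : Z * R = R * Z := by
    rw [hZ, ← hR]; exact hcomm _ _ (by rw [hlz, hlr]; exact (C.r_z hII).symm)
  have hszsz : C.s * C.z * C.s * C.z = 1 := by
    have h := C.s_z
    rw [inv_of_sq C.s_sq] at h
    rw [h, inv_mul_cancel]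
  have hSZ : S * Z * S * Z = 1 := by
    rw [hS, hZ, ← map_mul, ← map_mul, ← map_mul, ← π.map_one]
    exact hcongr _ _ (by simp only [Subgroup.coe_mul, hls, hlz]; exact hszsz)
  have hWS : W * S = S * W := by
    refine hcomm _ _ ?_
    rw [hlw, hls, ← C.kH_c5]
    exact (C.kH_commute _ _).symm
  have hRW : R * W * R * W = 1 := by
    rw [← hR, hW, ← map_mul, ← map_mul, ← map_mul, ← π.map_one]
    refine hcongr _ _ ?_
    simp only [Subgroup.coe_mul, hlr, hlw, Subgroup.coe_one]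
    have h := congrArg (fun v => C.n * v * C.n) hszsz
    simp only [C.n_hom, mul_one, C.n_sq, C.n_z] at h
    exact h
  have hWZ : W * Z = Z * W := hcomm _ _ (by
    rw [hlw, hlz]; exact C.D_comm (C.dM_mem_D 0 1) (C.dM_mem_D 1 0))
  obtain ⟨p, -, hpR, hV, hh2, hMR, hsupp, x, hx3, hxS, hxT, hxM, hxsupp⟩ :=
    six_four_exists j S hSinv hSR hSne hScard Z hZ3 hZR hSZ W hW3 hWS hRW hWZ
  obtain ⟨lp, hlp⟩ := hπ p
  set lh : L := lz * lp * lz⁻¹ * lp⁻¹ with hlhdef
  have hπh : π lh = Z * p * Z⁻¹ * p⁻¹ := by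
    rw [hlhdef, map_mul, map_mul, map_mul, map_inv, map_inv, hlp, ← hZ]
  rw [← hπh] at hV hh2 hMR hxT hxM
  set h : G := (lh : G) with hh
  have hru : Commute C.r C.u := C.r_u hII
  have hhr : Commute h C.r := by
    have hq : π (lp⁻¹ * lr * lp) = R := by
      rw [map_mul, map_mul, map_inv, hlp, hR, mul_assoc, ← hpR, inv_mul_cancel_left]
    have hqz : Commute ((lp : G)⁻¹ * C.r * lp) C.z := by
      rcases (hQ _).mp (Or.inr hq) with (e | e) | (e | e) <;>
        simp only [Subgroup.coe_mul, Subgroup.coe_inv, hlr] at e <;> rw [e]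
      · exact Commute.one_left _
      · exact (C.D_comm_u (C.dM_mem_D 1 0)).symm
      · exact C.r_z hII
      · exact (C.D_comm_u (C.dM_mem_D 1 0)).symm.mul_left (C.r_z hII)
    refine commute_of_conj_eq ?_
    rw [hh, hlhdef]
    simp only [Subgroup.coe_mul, Subgroup.coe_inv, hlz]
    set q := (lp : G)⁻¹ * C.r * lp with hqdef
    calc C.z * (lp : G) * C.z⁻¹ * (lp : G)⁻¹ * C.r * (C.z * (lp : G) * C.z⁻¹ * (lp : G)⁻¹)⁻¹
        = C.z * (lp : G) * (C.z⁻¹ * q * C.z) * (lp : G)⁻¹ * C.z⁻¹ := by rw [hqdef]; group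
      _ = C.z * ((lp : G) * q * (lp : G)⁻¹) * C.z⁻¹ := by
        rw [mul_assoc C.z⁻¹, hqz.eq, inv_mul_cancel_left]; group
      _ = C.r := by
        rw [hqdef, show (lp : G) * ((lp : G)⁻¹ * C.r * lp) * (lp : G)⁻¹ = C.r by group,
          conj_eq_of_commute (C.r_z hII).symm]
  have hhu : Commute h C.u := (hmem _).mp lh.2
  -- conjugation by `b`
  set c := MulAut.conj C.b with hc
  have hcval : ∀ v, c v = C.b * v * C.b := fun v => by
    rw [hc, MulAut.conj_apply, inv_of_sq C.b_sq]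
  have hfix : ∀ v, Commute C.b v → c v = v := fun v hv => by
    rw [hc, MulAut.conj_apply, conj_eq_of_commute hv]
  have hcr : c C.r = C.r := hfix _ (C.b_r hII)
  have hcs : c C.s = C.s := hfix _ C.b_s
  have hcz : c C.z = C.z := hfix _ C.b_z
  have hcu : c C.u = C.r * C.u := by rw [hcval]; exact C.b_u hII
  have hcru : c (C.r * C.u) = C.u := by
    rw [map_mul, hcr, hcu, ← mul_assoc, C.r_sq, one_mul]
  obtain ⟨lhb, hlhb⟩ : ∃ v : L, (v : G) = c h := by
    refine ⟨⟨_, (hmem _).mpr ?_⟩, rfl⟩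
    rw [← hcru]
    exact (hhr.mul_right hhu).map c
  have hQc : ∀ l l' : L, (l' : G) = c (l : G) → (π l = 1 ∨ π l = R) → π l' = 1 ∨ π l' = R := by
    intro l l' hll h
    refine (hQ l').mpr ?_
    rcases (hQ l).mp h with (e | e) | (e | e) <;> rw [hll, e]
    · left; left; exact map_one c
    · right; right; rw [hcu, hru.eq]
    · right; left; exact hcr
    · left; right; rw [← hru.eq]; exact hcru
  have hV' : VSix R S Z (π lhb) := by
    obtain ⟨v1, v2, v3, v4, v5, v6, v7⟩ := hV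
    have back : ∀ v, c (c v) = v := fun v => by
      simp only [hcval, mul_assoc, ← mul_assoc C.b C.b, C.b_sq, mul_one, one_mul]
    have hlh' : (lh : G) = c (lhb : G) := by rw [hlhb, back]
    refine ⟨?_, fun e => ?_, fun e => ?_, ?_, ?_, ?_, ?_⟩
    · rw [← map_mul] at v1 ⊢
      exact hQc _ _ (by simp only [Subgroup.coe_mul, hlhb, map_mul, ← hh]) v1
    · rcases hQc lhb lh hlh' (Or.inl e) with e' | e'
      exacts [v2 e', v3 e']
    · rcases hQc lhb lh hlh' (Or.inr e) with e' | e'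
      exacts [v2 e', v3 e']
    · rw [← hR]
      refine hcomm _ _ ?_
      rw [hlhb, hlr, ← hcr]
      exact hhr.map c
    · rw [hS, ← map_inv, ← map_inv, ← map_mul, ← map_mul, ← map_mul] at v5 ⊢
      exact hQc _ _ (by
        simp only [Subgroup.coe_mul, Subgroup.coe_inv, hls, hlhb, map_mul, map_inv, hcs, ← hh]) v5
    · simp only [hZ, ← map_inv, ← map_mul] at v6 ⊢
      exact hQc _ _ (by
        simp only [Subgroup.coe_mul, Subgroup.coe_inv, hlz, hlhb, map_mul, map_inv, hcz, ← hh]) v6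
    · simp only [hZ, ← map_inv, ← map_mul] at v7 ⊢
      exact hQc _ _ (by
        simp only [Subgroup.coe_mul, Subgroup.coe_inv, hlz, hlhb, map_mul, map_inv, hcz, ← hh]) v7
  have huniq : π lhb = π lh ∨ π lhb = π lh * R :=
    six_four_unique j (π lhb) hV'.2.2.2.1 S hSinv hSR hSne hScard Z hZ3 hZR hSZ hV' (π lh)
      (mem_invList6 _ hh2 hV.2.1) hV
  obtain ⟨q, hq, hchq⟩ : ∃ q, ((q = 1 ∨ q = C.u) ∨ (q = C.r ∨ q = C.u * C.r)) ∧ c h = h * q := by
    refine ⟨((lh⁻¹ * lhb : L) : G), (hQ _).mp ?_, ?_⟩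
    · rw [map_mul, map_inv]
      rcases huniq with e | e <;> rw [e]
      · left; exact inv_mul_cancel _
      · right; exact inv_mul_cancel_left _ _
    · rw [Subgroup.coe_mul, Subgroup.coe_inv, mul_inv_cancel_left, hlhb]
  have hqs : Commute q C.s ∧ Commute q C.z := by
    have hzu := (C.D_comm_u (C.dM_mem_D 1 0)).symm
    rcases hq with (rfl | rfl) | (rfl | rfl)
    · exact ⟨Commute.one_left _, Commute.one_left _⟩
    · exact ⟨C.s_u.symm, hzu⟩
    · exact ⟨C.r_s hII, C.r_z hII⟩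
    · exact ⟨C.s_u.symm.mul_left (C.r_s hII), hzu.mul_left (C.r_z hII)⟩
  set lh' : L := lz * lh * lz⁻¹ with hlh'def
  set lT : L := lh' * ls * lh'⁻¹ with hlTdef
  set lm : L := ls * lT with hlmdef
  set h' : G := C.z * h * C.z⁻¹ with hh'
  set T : G := h' * C.s * h'⁻¹ with hT
  set m : G := C.s * T with hm
  have hch' : c h' = h' * q := by
    rw [hh', map_mul, map_mul, map_inv, hcz, hchq]
    calc C.z * (h * q) * C.z⁻¹ = C.z * h * (q * C.z⁻¹) := by group
      _ = _ := by rw [hqs.2.inv_right.eq]; group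
  have hcm : c m = m := by
    rw [hm, hT, map_mul, map_mul, map_mul, map_inv, hcs, hch']
    calc C.s * (h' * q * C.s * (h' * q)⁻¹) = C.s * (h' * (q * C.s * q⁻¹) * h'⁻¹) := by group
      _ = _ := by rw [conj_eq_of_commute hqs.1]
  have elh' : (lh' : G) = h' := by simp [hlh'def, hlz, hh', hh]
  have elT : (lT : G) = T := by simp [hlTdef, elh', hls, hT]
  have elm : (lm : G) = m := by simp [hlmdef, elT, hls, hm]
  have hπT : π lT = Z * π lh * Z⁻¹ * S * (Z * π lh * Z⁻¹)⁻¹ := by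
    rw [hlTdef, hlh'def]; simp only [map_mul, map_inv, ← hS, ← hZ]
  have hπm : π lm = S * π lT := by rw [hlmdef, map_mul]
  -- a lift of order three
  obtain ⟨lx, hlx⟩ := hπ x
  have hx3' : x * x * x = 1 := by
    have : ∀ x ∈ threeList6, x * x * x = 1 := by decide +kernel
    exact this x hx3
  set lg := lx ^ 4 with hlgdef
  have hπg : π lg = x := by
    rw [hlgdef, map_pow, hlx, pow_succ, pow_succ, pow_two, hx3', one_mul]
  set g : G := (lg : G) with hg
  have hgu : Commute g C.u := (hmem _).mp lg.2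
  have hg3 : g * g * g = 1 := by
    have h1 : π (lx * lx * lx) = 1 := by rw [map_mul, map_mul, hlx, hx3']
    have h2 : ((lx * lx * lx : L) : G) ^ 4 = 1 := by
      rcases (hker _).mp h1 with e | e <;> rw [e]
      · exact one_pow _
      · rw [show (4 : ℕ) = 2 + 2 by norm_num, pow_add, pow_two, C.u_sq, one_mul]
    rw [← h2, hg, hlgdef, Subgroup.coe_pow, Subgroup.coe_mul, Subgroup.coe_mul]
    simp only [← pow_succ, ← pow_two, ← pow_mul, ← pow_add]
  have key : ∀ l l' : L, π lg * π l * (π lg)⁻¹ = π l' →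
      g * l * g⁻¹ = l' ∨ g * l * g⁻¹ = C.u * l' := by
    intro l l' e
    rw [← map_inv, ← map_mul, ← map_mul, ← mul_inv_eq_one, ← map_inv, ← map_mul, hker] at e
    simp only [Subgroup.coe_mul, Subgroup.coe_inv, ← hg, mul_inv_eq_one] at e
    rcases e with e | e
    exacts [Or.inl e, Or.inr (mul_inv_eq_iff_eq_mul.mp e)]
  have hgs : g * C.s * g⁻¹ = C.r := by
    rcases key ls lr (by rw [hπg, ← hS, hR]; exact hxS) with e | e <;> rw [hls, hlr] at e
    · exact e
    exfalso
    refine C.s_ne_conj_u hII (g⁻¹ * C.b) ?_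
    calc g⁻¹ * C.b * C.u * (g⁻¹ * C.b)⁻¹ = g⁻¹ * (C.b * C.u * C.b) * g := by
          rw [mul_inv_rev, inv_of_sq C.b_sq]; group
      _ = g⁻¹ * (g * C.s * g⁻¹) * g := by rw [C.b_u hII, e, hru.eq]
      _ = C.s := by group
  have hgT : g * T * g⁻¹ = C.s := by
    rcases key lT ls (by rw [hπg, hπT, ← hS]; exact hxT) with e | e <;> rw [elT, hls] at e
    · exact e
    exfalso
    refine C.s_ne_conj_u hII ((g * h')⁻¹ * C.a) ?_
    calc (g * h')⁻¹ * C.a * C.u * ((g * h')⁻¹ * C.a)⁻¹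
        = (g * h')⁻¹ * (C.a * C.u * C.a) * (g * h') := by
          rw [mul_inv_rev _ C.a, inv_of_sq C.a_sq]; group
      _ = (g * h')⁻¹ * (g * T * g⁻¹) * (g * h') := by rw [C.a_u hII, e, C.s_u.eq]
      _ = C.s := by rw [hT]; group
  have hgm : g * m * g⁻¹ = C.r * C.s := by
    rw [hm, show g * (C.s * T) * g⁻¹ = g * C.s * g⁻¹ * (g * T * g⁻¹) by group, hgs, hgT]
  have hmu : m * C.u = g⁻¹ * C.a * C.b * C.u * (g⁻¹ * C.a * C.b)⁻¹ := by
    calc m * C.u = g⁻¹ * (g * m * g⁻¹ * C.u) * g := by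
          rw [show g * m * g⁻¹ * C.u = g * m * C.u * g⁻¹ by
            rw [mul_assoc (g * m), ← hgu.inv_left.symm.eq, ← mul_assoc]]
          group
      _ = g⁻¹ * (C.a * (C.b * C.u * C.b) * C.a) * g := by
        rw [hgm, C.b_u hII, show C.a * (C.r * C.u) * C.a = C.a * C.r * (C.u * C.a) by group,
          C.a_r.eq, mul_assoc C.r C.a, ← mul_assoc C.a C.u, C.a_u hII]
        simp only [mul_assoc]
      _ = _ := by
        rw [mul_inv_rev, mul_inv_rev, inv_of_sq C.a_sq, inv_of_sq C.b_sq]; group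
  have hq' : m * C.r * C.u = C.b * (g⁻¹ * C.a * C.b) * C.u * (C.b * (g⁻¹ * C.a * C.b))⁻¹ := by
    calc m * C.r * C.u = c m * c C.u := by rw [hcm, hcu, mul_assoc]
      _ = c (m * C.u) := (map_mul c _ _).symm
      _ = C.b * (g⁻¹ * C.a * C.b * C.u * (g⁻¹ * C.a * C.b)⁻¹) * C.b⁻¹ := by
        rw [hmu, hc, MulAut.conj_apply]
      _ = _ := by group
  have hgmr : Commute g (m * C.r) := by
    rcases key (lm * lr) (lm * lr) (by
      refine mul_inv_eq_iff_eq_mul.mpr ?_
      rw [hπg, map_mul, hπm, hπT, hR]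
      exact hxM) with e | e <;> rw [Subgroup.coe_mul, elm, hlr] at e
    · exact commute_of_conj_eq e
    exfalso
    set t := m * C.r
    have h2 : g * (C.u * t) * g⁻¹ = C.u * (g * t * g⁻¹) := by
      calc g * (C.u * t) * g⁻¹ = g * C.u * t * g⁻¹ := by group
        _ = C.u * g * t * g⁻¹ := by rw [hgu.eq]
        _ = _ := by group
    have h3 : g * g * g * t * (g * g * g)⁻¹ = C.u * t := by
      calc g * g * g * t * (g * g * g)⁻¹ = g * (g * (g * t * g⁻¹) * g⁻¹) * g⁻¹ := by group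
        _ = g * (C.u * (C.u * t)) * g⁻¹ := by rw [e, h2, e]
        _ = g * t * g⁻¹ := by rw [← mul_assoc C.u, C.u_sq, one_mul]
        _ = _ := e
    rw [hg3, one_mul, inv_one, mul_one] at h3
    exact C.u_ne (mul_eq_right.mp h3.symm)
  have hg1 : g ≠ 1 := fun e => by
    have : π lg = 1 := (hker lg).mpr (Or.inl e)
    rw [hπg] at this
    subst this
    have h1 : ∀ x ∈ threeList6, x ≠ 1 := by decide +kernel
    exact h1 1 hx3 rfl
  obtain ⟨v, hv, hv' | hv'⟩ := C.three_in_Cu hgu (by rw [pow_succ, pow_two]; exact hg3) hg1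
  · have h1 : π ⟨v, (hmem v).mpr hv⟩ * π lg * (π ⟨v, (hmem v).mpr hv⟩)⁻¹ = Z := by
      rw [hZ, ← map_inv, ← map_mul, ← map_mul]
      exact hcongr _ _ (by simp only [Subgroup.coe_mul, Subgroup.coe_inv, hlz]; exact hv')
    apply hsupp
    rw [← hxsupp, ← h1, support_conj_card, hπg]
  · have hgy : g = v⁻¹ * C.y * v⁻¹⁻¹ := by rw [← hv']; group
    have hcomm' : Commute (C.b * (g⁻¹ * C.a * C.b) * C.u * (C.b * (g⁻¹ * C.a * C.b))⁻¹)
        (v⁻¹ * C.y * v⁻¹⁻¹) := by
      rw [← hq', ← hgy]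
      exact (hgmr.mul_right hgu).symm
    have h := C.conj_u_y' _ v⁻¹ hcomm'
    rw [← hq', conj_eq_of_commute hv.inv_left] at h
    have hmr : m = C.r := by
      have h1 : m * C.r = 1 := mul_eq_right.mp h
      rw [← inv_of_sq C.r_sq]; exact eq_inv_of_mul_eq_one_left h1
    apply hMR
    rw [← hπT, ← hπm]
    exact (hcongr _ _ (by rw [elm, hlr, hmr])).trans hR

end Config

end CfsgLib.SymEight40
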