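import Cfsg.Agent.SymEight40.ProdR
import Cfsg.Agent.SymEight40.ProdCentU
import Cfsg.Agent.S1323
import Cfsg.Agent.Cores.FStar
import Cfsg.Agent.Fitting.Join

/-!
The second type of configuration: the group is `(A₅ × A₅).2²`.
-/

set_option autoImplicit false

open Equiv Subgroup

namespace CfsgLib.SymEight40

namespace Config

variable {G : Type*} [Group G] [Finite G] {C : Config G} (hC : C.ProdHyp)

include hC

theorem n_not_pair {x y : Perm (Fin 5)} (h : Perm.sign x = Perm.sign y) : C.n ≠ C.pair x y := by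
  intro e
  have hw : C.w = C.pair 1 c5 := by rw [← C.kH_c5, kH_eq C c5, eps_even a5_facts.1]
  have h2 : C.pair x y * C.z * (C.pair x y)⁻¹ = C.w := by
    rw [← e, C.n_inv]; exact C.n_z
  rw [z_eq, pair_conj hC h (by rw [map_one, a5_facts.1]), hw] at h2
  exact absurd (conj_eq_one_iff.mp
    (pair_eq hC (by simp [a5_facts.1]) (by rw [map_one, a5_facts.1]) h2).1) (by decide +kernel)

/-- The subgroup of pairs. -/
def pairs : Subgroup G where
  carrier := {g | ∃ x y, Perm.sign x = Perm.sign y ∧ g = C.pair x y}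
  one_mem' := ⟨1, 1, rfl, (pair_one C).symm⟩
  mul_mem' := by
    rintro g g' ⟨x, y, h, rfl⟩ ⟨x', y', h', rfl⟩
    exact ⟨x * x', y * y', by rw [map_mul, map_mul, h, h'], pair_mul hC h h'⟩
  inv_mem' := by
    rintro g ⟨x, y, h, rfl⟩
    exact ⟨x⁻¹, y⁻¹, by rw [Perm.sign_inv, Perm.sign_inv, h], pair_inv hC h⟩

theorem pairs_conj {c g : G} (hc : c ∈ pairH hC) (hg : g ∈ pairs hC) : c * g * c⁻¹ ∈ pairs hC := by
  obtain ⟨x, y, h, rfl⟩ := hg
  obtain ⟨x', y', h', rfl | rfl⟩ := hc
  · exact ⟨_, _, by simp [h, h'], pair_conj hC h' h⟩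
  · refine ⟨x' * y * x'⁻¹, y' * x * y'⁻¹, by simp [h, h'], ?_⟩
    · rw [show C.pair x' y' * C.n * C.pair x y * (C.pair x' y' * C.n)⁻¹ =
        C.pair x' y' * (C.n * C.pair x y * C.n⁻¹) * (C.pair x' y')⁻¹ by group, C.n_inv,
        pair_swap hC h, pair_conj hC h' h.symm]

theorem n_not_pairs : C.n ∉ pairs hC := fun ⟨_, _, h, e⟩ => n_not_pair hC h e

theorem u_pairs : C.u ∈ pairs hC := ⟨u5, u5, rfl, u_eq C⟩

theorem r_pairs : C.r ∈ pairs hC := ⟨1, r5, by rw [map_one, a5_facts.2.1], r_eq hC⟩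

theorem r_ne_one : C.r ≠ 1 := by
  rw [hC.hII]
  exact fun e => a5_facts.2.2.2.2.2.2.2.2.2.2.1 (C.kH_inj (e.trans C.kH.map_one.symm))

theorem r_class' {g : G} (hg : g ∈ pairH hC) (hr : ∃ e, g = e * C.r * e⁻¹) :
    ∃ c ∈ pairH hC, g = c * C.r * c⁻¹ := by
  obtain ⟨c, hc, h | h⟩ := r_class hC hg hr
  · exact ⟨c, hc, h⟩
  obtain ⟨e, he⟩ := hr
  exfalso
  refine r_ne_conj_rs hC (c⁻¹ * e) ?_
  calc c⁻¹ * e * C.r * (c⁻¹ * e)⁻¹ = c⁻¹ * (e * C.r * e⁻¹) * c := by group
    _ = C.r * C.s := by rw [← he, h]; group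

theorem conj_le {v : G} (hv : ∀ g, Commute g v → g ∈ pairH hC) {c : G} (hc : c ∈ pairH hC) :
    ∀ g, Commute g (c * v * c⁻¹) → g ∈ pairH hC := by
  intro g hg
  have h := hv (c⁻¹ * g * c) (by
    have := commute_conj hg c⁻¹
    simpa [mul_assoc] using this)
  simpa [mul_assoc] using mul_mem (mul_mem hc h) (inv_mem hc)

theorem Crs_le : ∀ g, Commute g (C.r * C.s) → g ∈ pairH hC := by
  classical
  set L := centralizer ({C.r * C.s} : Set G) with hL
  have hmem : ∀ g, g ∈ L ↔ Commute g (C.r * C.s) := fun g => mem_centralizer_singleton_iff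
  have hrs : Commute C.r C.s := C.r_s hC.hII
  have hrL : C.r ∈ L := (hmem _).mpr ((Commute.refl _).mul_right hrs)
  have hvL : C.r * C.s ∈ L := (hmem _).mpr (Commute.refl _)
  have hrv : C.r * (C.r * C.s) = C.s := by rw [← mul_assoc, C.r_sq, one_mul]
  have hvr : C.r * C.s * C.r = C.s := by rw [hrs.eq, mul_assoc, C.r_sq, mul_one]
  have hsr : C.s = C.n * C.r * C.n⁻¹ := by rw [C.n_inv]; exact (C.n_conj C.s).symm
  have hv2 : C.r * C.s * (C.r * C.s) = 1 := by rw [← mul_assoc, hvr, C.s_sq]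
  have s5 : Perm.sign (1 : Perm (Fin 5)) = Perm.sign r5 := by rw [map_one, a5_facts.2.1]
  obtain ⟨W, hWn, hWodd, hW⟩ := exists_core (⟨C.r, hrL⟩ : L) ⟨C.r * C.s, hvL⟩ (Subtype.ext C.r_sq)
    (Subtype.ext hv2) (fun g => Subtype.ext ((hmem g).mp g.2).eq)
    (fun e => r_ne_conj_rs hC 1 (by simpa using congrArg Subtype.val e))
    (fun e => r_ne_one hC (congrArg Subtype.val e)) (by
    intro g hg
    set d : G := (g : G) * C.r * (g : G)⁻¹ with hd
    have hd2 : d * d = 1 := conj_sq C.r_sq _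
    have hgv : Commute (g : G) (C.r * C.s) := (hmem _).mp g.2
    rcases hg with hg | hg
    · have hg' : d * C.r * d * C.r = 1 := congrArg Subtype.val hg
      have hdr : Commute d C.r := by
        have := eq_inv_of_mul_eq_one_left (show d * C.r * (d * C.r) = 1 by rw [← hg']; group)
        rw [mul_inv_rev, inv_of_sq C.r_sq, inv_of_sq hd2] at this
        exact this
      have hdH := Cr_le hC d hdr
      obtain ⟨x, hx, hx1, hxd⟩ := r_shape hC hdH ⟨g, hd⟩
      have hdv : ∃ e, d * (C.r * C.s) = e * C.r * e⁻¹ := by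
        refine ⟨(g : G) * C.n, ?_⟩
        calc d * (C.r * C.s) = (g : G) * C.r * (g : G)⁻¹ * ((g : G) * (C.r * C.s) * (g : G)⁻¹) := by
              rw [conj_eq_of_commute hgv]
          _ = (g : G) * (C.r * (C.r * C.s)) * (g : G)⁻¹ := by group
          _ = _ := by rw [hrv, hsr]; group
      have sx : Perm.sign x = Perm.sign (1 : Perm (Fin 5)) := by rw [hx, map_one]
      have hxr : Perm.sign (x * r5) = 1 := by rw [map_mul, hx, a5_facts.2.1, one_mul]
      rcases hxd with hxd | hxd
      · have hdv' : d * (C.r * C.s) = C.pair (x * r5) r5 := by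
          rw [hxd, rs_eq hC, pair_mul hC sx rfl, one_mul]
        have s2 : Perm.sign (x * r5) = Perm.sign r5 := by rw [hxr, a5_facts.2.1]
        obtain ⟨x2, hx2, -, h2 | h2⟩ := r_shape hC (hdv' ▸ pair_mem hC s2) hdv
        · exact absurd (pair_eq hC s2 (by rw [hx2, map_one]) (hdv'.symm.trans h2)).2
            a5_facts.2.2.2.2.2.2.2.2.2.2.1
        · have h := (pair_eq hC s2 (by rw [hx2, map_one]) (hdv'.symm.trans h2)).1
          have hx5 : x = r5 := by
            rw [mul_eq_one_iff_eq_inv.mp h, inv_of_sq a5_facts.2.2.2.2.2.2.1]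
          right
          refine Subtype.ext ?_
          change d = C.r * (C.r * C.s)
          rw [hrv, hxd, hx5, s_eq hC]
      · have hdv' : d * (C.r * C.s) = C.pair r5 (x * r5) := by
          rw [hxd, rs_eq hC, pair_mul hC sx.symm rfl, one_mul]
        have s2 : Perm.sign r5 = Perm.sign (x * r5) := by rw [hxr, a5_facts.2.1]
        obtain ⟨x2, hx2, -, h2 | h2⟩ := r_shape hC (hdv' ▸ pair_mem hC s2) hdv
        · have h := (pair_eq hC s2 (by rw [hx2, map_one]) (hdv'.symm.trans h2)).2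
          have hx5 : x = r5 := by
            rw [mul_eq_one_iff_eq_inv.mp h, inv_of_sq a5_facts.2.2.2.2.2.2.1]
          left
          refine Subtype.ext ?_
          change d = C.r
          rw [hxd, hx5, r_eq hC]
        · exact absurd (pair_eq hC s2 (by rw [hx2, map_one]) (hdv'.symm.trans h2)).1
            a5_facts.2.2.2.2.2.2.2.2.2.2.1
    · exfalso
      have hg' : d * C.r * d * C.r = C.r * C.s := congrArg Subtype.val hg
      have hdr : d * C.r * d⁻¹ = C.s := by
        calc d * C.r * d⁻¹ = d * C.r * d * C.r * C.r := by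
              rw [inv_of_sq hd2, mul_assoc (d * C.r * d), C.r_sq, mul_one]
          _ = C.s := by rw [hg', hvr]
      have hnd : Commute (C.n * d) C.r := commute_of_conj_eq (by
        rw [show C.n * d * C.r * (C.n * d)⁻¹ = C.n * (d * C.r * d⁻¹) * C.n⁻¹ by group, hdr,
          C.n_inv])
      have hdH : d ∈ pairH hC := by
        have := mul_mem (n_mem_pairH hC) (Cr_le hC _ hnd)
        rwa [← mul_assoc, C.n_sq, one_mul] at this
      obtain ⟨x, hx, -, hxd | hxd⟩ := r_shape hC hdH ⟨g, hd⟩ <;>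
      · rw [hxd, r_eq hC, pair_conj hC (by rw [map_one, hx]) s5, s_eq hC] at hdr
        have h := (pair_eq hC (by simp [a5_facts.2.1]) s5.symm hdr).1
        simp at h
        exact a5_facts.2.2.2.2.2.2.2.2.2.2.1 h.symm)
  set W' := W.map L.subtype
  have hW'odd : Odd (Nat.card W') := by
    rwa [← Nat.card_congr (equivMapOfInjective W _ L.subtype_injective).toEquiv]
  have hW'n : ∀ g, Commute g (C.r * C.s) → ∀ x ∈ W', g * x * g⁻¹ ∈ W' := by
    rintro g hg _ ⟨x, hx, rfl⟩
    exact ⟨_, hWn.conj_mem x hx ⟨g, (hmem g).mpr hg⟩, rfl⟩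
  have hW'v : ∀ x ∈ W', Commute x (C.r * C.s) := by
    rintro _ ⟨x, -, rfl⟩
    exact (hmem _).mp x.2
  have hWH : ∀ v ∈ W', v ∈ pairH hC → v = 1 := by
    intro v hv hvH
    have h16 : v ^ 16 = 1 := by
      obtain ⟨x, y, h, rfl | rfl⟩ := hvH
      · have hc := (hW'v _ hv).eq
        rw [rs_eq hC, pair_mul hC h rfl, pair_mul hC rfl h] at hc
        obtain ⟨h1, h2⟩ := pair_eq hC (by simp [h]) (by simp [h]) hc
        rw [show 16 = 8 * 2 by norm_num, pow_mul, tSub_pow hC ⟨x, y, h, h1, h2, rfl⟩, one_pow]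
      · have hc : Commute (C.pair x y) (C.r * C.s) := by
          have := (hW'v _ hv).mul_left (rs_comm_n hC)
          rwa [mul_assoc, C.n_sq, mul_one] at this
        have hc' := hc.eq
        rw [rs_eq hC, pair_mul hC h rfl, pair_mul hC rfl h] at hc'
        obtain ⟨h1, h2⟩ := pair_eq hC (by simp [h]) (by simp [h]) hc'
        have hsq : C.pair x y * C.n * (C.pair x y * C.n) = C.pair (x * y) (y * x) := by
          rw [← pair_mul hC h h.symm, ← pair_swap hC h]; group
        rw [show 16 = 2 * 8 by norm_num, pow_mul, pow_two, hsq]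
        exact tSub_pow hC ⟨x * y, y * x, by rw [map_mul, map_mul, mul_comm],
          ((show Commute x r5 from h1).mul_left h2).eq, ((show Commute y r5 from h2).mul_left h1).eq,
          rfl⟩
    refine orderOf_eq_one_iff.mp (Nat.dvd_one.mp ?_)
    have hc : (Nat.card W').Coprime 16 := by
      rw [show (16 : ℕ) = 2 ^ 4 by norm_num]
      exact (Nat.coprime_two_right.mpr hW'odd).pow_right 4
    exact hc ▸ Nat.dvd_gcd (Subgroup.orderOf_dvd_natCard _ hv) (orderOf_dvd_of_pow_eq_one h16)
  have hinv : ∀ t, t * t = 1 → Commute t (C.r * C.s) → (∀ g, Commute g t → g ∈ pairH hC) →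
      ∀ v ∈ W', t * v * t = v⁻¹ := by
    intro t ht htv htC
    refine inverted_of_fixfree W' ht (fun v hv => ?_) fun v hv hc => hWH v hv (htC v hc.symm)
    have := hW'n t htv v hv
    rwa [inv_of_sq ht] at this
  have Cs : ∀ g, Commute g C.s → g ∈ pairH hC := hsr ▸ conj_le hC (Cr_le hC) (n_mem_pairH hC)
  have Cx : ∀ x, Perm.sign x = 1 → x * x = 1 → x ≠ 1 →
      ∀ g, Commute g (C.pair x 1) → g ∈ pairH hC := by
    intro x hx hx2 hx1
    obtain ⟨k, hk, rfl⟩ := invol_even x hx2 hx1 hx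
    have hkk : Perm.sign k = Perm.sign (1 : Perm (Fin 5)) := by rw [map_one, hk]
    have : C.pair (k * r5 * k⁻¹) 1 = C.pair k 1 * C.s * (C.pair k 1)⁻¹ := by
      rw [s_eq hC, pair_conj hC hkk s5.symm, mul_one, inv_one, mul_one]
    rw [this]
    exact conj_le hC Cs (pair_mem hC hkk)
  have hW1 : ∀ v ∈ W', v = 1 := by
    have sa : Perm.sign a5 = Perm.sign (1 : Perm (Fin 5)) := by rw [map_one, a5_facts.2.2.1]
    have sar : Perm.sign (a5 * r5) = Perm.sign (1 : Perm (Fin 5)) := by
      rw [map_one, a5_facts.2.2.2.2.2.2.2.2.1]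
    have h1 : ∀ x, Perm.sign x = Perm.sign (1 : Perm (Fin 5)) → x * r5 = r5 * x →
        Commute (C.pair x 1) (C.r * C.s) := by
      intro x hx hxr
      rw [commute_iff_eq, rs_eq hC, pair_mul hC hx rfl, pair_mul hC rfl hx, hxr, one_mul, mul_one]
    have ea : a5 * r5 = r5 * a5 := by decide +kernel
    have ear : a5 * r5 * r5 = r5 * (a5 * r5) := by decide +kernel
    have ha2 : C.pair a5 1 * C.pair a5 1 = 1 := by
      rw [pair_mul hC sa sa, a5_facts.2.2.2.1, mul_one, pair_one]
    have har2 : C.pair (a5 * r5) 1 * C.pair (a5 * r5) 1 = 1 := by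
      rw [pair_mul hC sar sar, show a5 * r5 * (a5 * r5) = 1 by decide +kernel, mul_one, pair_one]
    have hprod : C.pair a5 1 * C.pair (a5 * r5) 1 = C.s := by
      rw [pair_mul hC sa sar, ← mul_assoc, a5_facts.2.2.2.1, one_mul, mul_one, s_eq hC]
    intro v hv
    refine hWH v hv (Cs v ?_)
    rw [← hprod]
    exact (commute_mul_of_inverted ha2 har2
      (hinv _ ha2 (h1 _ sa ea) (Cx a5 a5_facts.2.2.1 a5_facts.2.2.2.1
        a5_facts.2.2.2.2.2.2.2.2.2.1))
      (hinv _ har2 (h1 _ sar ear) (Cx _ a5_facts.2.2.2.2.2.2.2.2.1 (by decide +kernel)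
        (by decide +kernel))) v hv).symm
  intro g hg
  obtain ⟨x, hx, h⟩ := hW ⟨g, (hmem g).mpr hg⟩
  have hx1 : (x : G) = 1 := hW1 _ ⟨x, hx, rfl⟩
  rcases h with h | h
  · have h' : (x : G) * g * C.r * ((x : G) * g)⁻¹ = C.r := congrArg Subtype.val h
    rw [hx1, one_mul] at h'
    exact Cr_le hC g (commute_of_conj_eq h')
  · have h' : (x : G) * g * C.r * ((x : G) * g)⁻¹ = C.r * (C.r * C.s) := congrArg Subtype.val h
    rw [hx1, one_mul, hrv] at h'
    have h2 := Cr_le hC (C.n * g) (commute_of_conj_eq (by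
      rw [show C.n * g * C.r * (C.n * g)⁻¹ = C.n * (g * C.r * g⁻¹) * C.n⁻¹ by group, h', C.n_inv]))
    have := mul_mem (n_mem_pairH hC) h2
    rwa [← mul_assoc, C.n_sq, one_mul] at this

theorem pairH_eq_top : pairH hC = ⊤ := by
  refine top_of_two_classes (pairH hC) C.u C.r C.u_sq C.r_sq (C.r_ne_conj_u hC.hII) (r_ne_one hC)
    (fun g hg => Cu_le hC hg) (Cr_le hC) (fun g hg => ?_) ?_
  · obtain ⟨c, hc, h⟩ := r_class' hC hg ⟨g, rfl⟩
    exact ⟨c, hc, h.symm⟩
  · intro w hwu hw2 hw1 hconj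
    have hwH : w ∈ pairH hC := Cu_le hC hwu
    have huw : C.u * w ∈ pairH hC := mul_mem (u_mem_pairH hC) hwH
    have huwp : C.u * w ∈ pairs hC := by
      rcases hconj with ⟨g, hg⟩ | ⟨g, hg⟩
      · obtain ⟨c, hc, h⟩ := u_class' hC huw ⟨g, hg.symm⟩
        rw [h]; exact pairs_conj hC hc (u_pairs hC)
      · obtain ⟨c, hc, h⟩ := r_class' hC huw ⟨g, hg.symm⟩
        rw [h]; exact pairs_conj hC hc (r_pairs hC)
    have hwp : w ∈ pairs hC := by
      have := mul_mem (u_pairs hC) huwp
      rwa [← mul_assoc, C.u_sq, one_mul] at this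
    obtain ⟨c, hc, h | h | h | h | h⟩ := invol_classes hC hwH hw2 hw1
    · exact h ▸ conj_le hC (fun g hg => Cu_le hC hg) hc
    · exact h ▸ conj_le hC (Cr_le hC) hc
    · exact h ▸ conj_le hC (Crs_le hC) hc
    · exfalso
      have := pairs_conj hC (inv_mem hc) hwp
      rw [h, show c⁻¹ * (c * C.n * c⁻¹) * c⁻¹⁻¹ = C.n by group] at this
      exact n_not_pairs hC this
    · exfalso
      have := pairs_conj hC (inv_mem hc) hwp
      rw [h, show c⁻¹ * (c * (C.u * C.n) * c⁻¹) * c⁻¹⁻¹ = C.u * C.n by group] at this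
      have := mul_mem (u_pairs hC) this
      rw [← mul_assoc, C.u_sq, one_mul] at this
      exact n_not_pairs hC this

theorem mem_all (g : G) : ∃ x y, Perm.sign x = Perm.sign y ∧
    (g = C.pair x y ∨ g = C.pair x y * C.n) :=
  (mem_pairH hC).mp (by rw [pairH_eq_top hC]; exact mem_top g)

theorem even_val (p : alternatingGroup (Fin 5) × alternatingGroup (Fin 5)) :
    Perm.sign (p.1 : Perm (Fin 5)) = Perm.sign (p.2 : Perm (Fin 5)) := by
  rw [Equiv.Perm.mem_alternatingGroup.mp p.1.2, Equiv.Perm.mem_alternatingGroup.mp p.2.2]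

/-- The pairs of even permutations. -/
def evenHom : alternatingGroup (Fin 5) × alternatingGroup (Fin 5) →* G where
  toFun p := C.pair p.1 p.2
  map_one' := pair_one C
  map_mul' p q := (pair_mul hC (even_val hC p) (even_val hC q)).symm

theorem evenHom_inj : Function.Injective (evenHom hC) := fun p q h => by
  obtain ⟨h1, h2⟩ := pair_eq hC (even_val hC p) (even_val hC q) h
  exact Prod.ext (Subtype.ext h1) (Subtype.ext h2)

theorem mem_evenRange {g : G} : g ∈ (evenHom hC).range ↔
    ∃ x y, Perm.sign x = 1 ∧ Perm.sign y = 1 ∧ g = C.pair x y := by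
  constructor
  · rintro ⟨⟨⟨x, hx⟩, ⟨y, hy⟩⟩, rfl⟩
    exact ⟨x, y, hx, hy, rfl⟩
  · rintro ⟨x, y, hx, hy, rfl⟩
    exact ⟨(⟨x, hx⟩, ⟨y, hy⟩), rfl⟩

theorem evenRange_normal : (evenHom hC).range.Normal := by
  refine ⟨fun v hv g => ?_⟩
  obtain ⟨x, y, hx, hy, rfl⟩ := (mem_evenRange hC).mp hv
  have h : Perm.sign x = Perm.sign y := by rw [hx, hy]
  obtain ⟨x', y', h', rfl | rfl⟩ := mem_all hC g
  · rw [pair_conj hC h' h]
    exact (mem_evenRange hC).mpr ⟨_, _, by simp [hx], by simp [hy], rfl⟩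
  · rw [show C.pair x' y' * C.n * C.pair x y * (C.pair x' y' * C.n)⁻¹ =
      C.pair x' y' * (C.n * C.pair x y * C.n⁻¹) * (C.pair x' y')⁻¹ by group, C.n_inv,
      pair_swap hC h, pair_conj hC h' h.symm]
    exact (mem_evenRange hC).mpr ⟨_, _, by simp [hy], by simp [hx], rfl⟩

theorem evenRange_sq (g : G) : g ^ 2 ∈ (evenHom hC).range := by
  rw [pow_two]
  obtain ⟨x, y, h, rfl | rfl⟩ := mem_all hC g
  · rw [pair_mul hC h h]
    exact (mem_evenRange hC).mpr ⟨_, _, by rw [map_mul, Int.units_mul_self],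
      by rw [map_mul, Int.units_mul_self], rfl⟩
  · have hsq : C.pair x y * C.n * (C.pair x y * C.n) = C.pair (x * y) (y * x) := by
      rw [← pair_mul hC h h.symm, ← pair_swap hC h]; group
    rw [hsq]
    exact (mem_evenRange hC).mpr ⟨_, _, by rw [map_mul, h, Int.units_mul_self],
      by rw [map_mul, h, Int.units_mul_self], rfl⟩

theorem evenRange_index : (evenHom hC).range.index = 4 := by
  classical
  set N := (evenHom hC).range with hN
  let f : Bool × Bool × N → G := fun p =>
    (p.2.2 : G) * (if p.1 then C.u else 1) * (if p.2.1 then C.n else 1)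
  have hf : Function.Bijective f := by
    refine ⟨?_, fun g => ?_⟩
    · rintro ⟨e, k, ⟨m, hm⟩⟩ ⟨e', k', ⟨m', hm'⟩⟩ h
      simp only [f] at h
      have hmp : m ∈ pairs hC := by
        obtain ⟨x, y, hx, hy, rfl⟩ := (mem_evenRange hC).mp hm
        exact ⟨x, y, by rw [hx, hy], rfl⟩
      have hmp' : m' ∈ pairs hC := by
        obtain ⟨x, y, hx, hy, rfl⟩ := (mem_evenRange hC).mp hm'
        exact ⟨x, y, by rw [hx, hy], rfl⟩
      have hup : ∀ e : Bool, (if e then C.u else 1) ∈ pairs hC := fun e => by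
        cases e
        exacts [one_mem _, u_pairs hC]
      have hk : k = k' := by
        by_contra hne
        apply n_not_pairs hC
        have hmem1 := mul_mem hmp (hup e)
        have hmem2 := mul_mem hmp' (hup e')
        rcases k <;> rcases k' <;> simp only [ne_eq, not_true_eq_false, reduceCtorEq,
          not_false_eq_true, Bool.false_eq_true, if_false, if_true, mul_one] at h hne
        · have : C.n = (m' * (if e' then C.u else 1))⁻¹ * (m * (if e then C.u else 1)) := by
            rw [h]; group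
          rw [this]; exact mul_mem (inv_mem hmem2) hmem1
        · have : C.n = (m * (if e then C.u else 1))⁻¹ * (m' * (if e' then C.u else 1)) := by
            rw [← h]; group
          rw [this]; exact mul_mem (inv_mem hmem1) hmem2
      subst hk
      rw [mul_left_inj] at h
      have he : e = e' := by
        by_contra hne
        have huN : C.u ∈ N := by
          have hmm : m'⁻¹ * m ∈ N := mul_mem (inv_mem hm') hm
          rcases e <;> rcases e' <;> simp only [ne_eq, not_true_eq_false, reduceCtorEq,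
            not_false_eq_true, Bool.false_eq_true, if_false, if_true, mul_one] at h hne
          · rw [h, inv_mul_cancel_left] at hmm; exact hmm
          · rw [← h] at hmm
            simpa [mul_assoc] using inv_mem hmm
        obtain ⟨x, y, hx, hy, hu⟩ := (mem_evenRange hC).mp huN
        rw [u_eq] at hu
        rw [← (pair_eq hC rfl (by rw [hx, hy]) hu).1, r5_u5.2.2.2.2.2.2.2.1] at hx
        exact absurd hx (by decide)
      subst he
      rw [mul_left_inj] at h
      subst h
      rfl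
    · have key : ∀ x y, Perm.sign x = Perm.sign y → ∀ k : Bool,
          ∃ p, f p = C.pair x y * (if k then C.n else 1) := by
        intro x y h k
        rcases Int.units_eq_one_or (Perm.sign x) with hs | hs
        · refine ⟨(false, k, ⟨C.pair x y, (mem_evenRange hC).mpr ⟨x, y, hs, h ▸ hs, rfl⟩⟩), ?_⟩
          simp [f]
        · refine ⟨(true, k, ⟨C.pair (x * u5) (y * u5), (mem_evenRange hC).mpr
            ⟨_, _, by rw [map_mul, hs, r5_u5.2.2.2.2.2.2.2.1]; rfl,
              by rw [map_mul, ← h, hs, r5_u5.2.2.2.2.2.2.2.1]; rfl, rfl⟩⟩), ?_⟩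
          simp only [f, if_true]
          have hu2 : ∀ v : Perm (Fin 5), v * u5 * u5 = v := fun v => by
            simp [u5, mul_assoc]
          rw [u_eq, pair_mul hC (by rw [map_mul, map_mul, h]) rfl, hu2, hu2]
      obtain ⟨x, y, h, rfl | rfl⟩ := mem_all hC g
      · simpa using key x y h false
      · simpa using key x y h true
  have h1 := Nat.card_eq_of_bijective f hf
  rw [Nat.card_prod, Nat.card_prod, Nat.card_eq_fintype_card (α := Bool), Fintype.card_bool,
    ← N.card_mul_index] at h1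
  have hpos : 0 < Nat.card N := Nat.card_pos
  have : Nat.card N * N.index = Nat.card N * 4 := by rw [← h1]; ring
  exact Nat.eq_of_mul_eq_mul_left hpos this

theorem evenRange_minimal (K : Subgroup G) (hKn : K.Normal) (hKN : K ≤ (evenHom hC).range) :
    K = ⊥ ∨ K = (evenHom hC).range := by
  rcases eq_or_ne K ⊥ with h | h
  · exact Or.inl h
  right
  refine le_antisymm hKN ?_
  set Φ := evenHom hC with hΦ
  set K' := K.comap Φ with hK'
  haveI : K'.Normal := hKn.comap Φ
  have hswap : ∀ p, p ∈ K' → (p.2, p.1) ∈ K' := fun p hp => by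
    rw [hK', mem_comap] at hp ⊢
    have h1 := hKn.conj_mem _ hp C.n
    rw [C.n_inv] at h1
    change C.pair (p.2 : Perm (Fin 5)) p.1 ∈ K
    rw [← pair_swap hC (even_val hC p)]
    exact h1
  obtain ⟨p, hp, hp1⟩ : ∃ p, p ∈ K' ∧ p.1 ≠ 1 := by
    obtain ⟨k, hk, hk1⟩ := (Subgroup.bot_or_exists_ne_one K).resolve_left h
    obtain ⟨q, rfl⟩ := hKN hk
    by_cases hq : q.1 = 1
    · refine ⟨(q.2, q.1), hswap q hk, fun e => hk1 ?_⟩
      rw [show q = 1 from Prod.ext hq e, map_one]
    · exact ⟨q, hk, hq⟩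
  have hleft : K'.comap (MonoidHom.inl _ (alternatingGroup (Fin 5))) = ⊤ := by
    refine (alt_five_bot_or_top _).resolve_left fun hbot => hp1 ?_
    have hall : ∀ t, p.1 * t = t * p.1 := fun t => by
      have hm : t * p.1 * t⁻¹ * p.1⁻¹ ∈ K'.comap (MonoidHom.inl _ (alternatingGroup (Fin 5))) := by
        rw [mem_comap]
        have := mul_mem ((inferInstance : K'.Normal).conj_mem p hp (t, 1)) (inv_mem hp)
        have e : ((t, 1) : alternatingGroup (Fin 5) × alternatingGroup (Fin 5)) * p * (t, 1)⁻¹ * p⁻¹ =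
            (MonoidHom.inl _ _) (t * p.1 * t⁻¹ * p.1⁻¹) := Prod.ext (by simp) (by simp)
        rwa [e] at this
      rw [hbot, mem_bot, mul_inv_eq_one, mul_inv_eq_iff_eq_mul] at hm
      exact hm.symm
    refine Subtype.ext (central_five _ ?_ ?_ ?_)
    · exact congrArg Subtype.val (hall ⟨c5, a5_facts.1⟩)
    · exact congrArg Subtype.val (hall ⟨a5, a5_facts.2.2.1⟩)
    · exact congrArg Subtype.val (hall ⟨r5, a5_facts.2.1⟩)
  rintro _ ⟨q, rfl⟩
  have h1 : ∀ t : alternatingGroup (Fin 5),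
      (t, (1 : alternatingGroup (Fin 5))) ∈ K' := fun t => by
    have : t ∈ K'.comap (MonoidHom.inl _ (alternatingGroup (Fin 5))) := hleft ▸ mem_top _
    exact this
  have := mul_mem (h1 q.1) (hswap _ (h1 q.2))
  simpa [hK'] using this

theorem evenRange_centralizer : centralizer ((evenHom hC).range : Set G) = ⊥ := by
  rw [Subgroup.eq_bot_iff_forall]
  intro g hg
  rw [mem_centralizer_iff] at hg
  have hc : ∀ x y, Perm.sign x = 1 → Perm.sign y = 1 → g * C.pair x y * g⁻¹ = C.pair x y :=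
    fun x y hx hy => by
      rw [mul_inv_eq_iff_eq_mul]
      exact (hg _ ((mem_evenRange hC).mpr ⟨x, y, hx, hy, rfl⟩)).symm
  obtain ⟨x', y', h', rfl | rfl⟩ := mem_all hC g
  · have key : ∀ v, Perm.sign v = 1 → x' * v = v * x' ∧ y' * v = v * y' := fun v hv => by
      have := hc v v hv hv
      rw [pair_conj hC h' rfl] at this
      obtain ⟨h1, h2⟩ := pair_eq hC (by simp [h']) rfl this
      exact ⟨mul_inv_eq_iff_eq_mul.mp h1, mul_inv_eq_iff_eq_mul.mp h2⟩
    rw [central_five x' (key _ a5_facts.1).1 (key _ a5_facts.2.2.1).1 (key _ a5_facts.2.1).1,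
      central_five y' (key _ a5_facts.1).2 (key _ a5_facts.2.2.1).2 (key _ a5_facts.2.1).2, pair_one]
  · exfalso
    have hr1 : Perm.sign r5 = Perm.sign (1 : Perm (Fin 5)) := by rw [map_one, a5_facts.2.1]
    have := hc r5 1 a5_facts.2.1 (map_one _)
    rw [show C.pair x' y' * C.n * C.pair r5 1 * (C.pair x' y' * C.n)⁻¹ =
        C.pair x' y' * (C.n * C.pair r5 1 * C.n⁻¹) * (C.pair x' y')⁻¹ by group, C.n_inv,
      pair_swap hC hr1, pair_conj hC h' hr1.symm] at this
    have h1 := (pair_eq hC (by simp [a5_facts.2.1]) hr1 this).1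
    rw [mul_one, mul_inv_cancel] at h1
    exact a5_facts.2.2.2.2.2.2.2.2.2.2.1 h1.symm

theorem fStar_eq : Cfsg.generalizedFittingSubgroup G = (evenHom hC).range := by
  classical
  set Φ := evenHom hC
  haveI hN := evenRange_normal hC
  haveI : IsSimpleGroup (alternatingGroup (Fin 5)) := alternatingGroup.isSimpleGroup (by simp)
  have hqs := Cfsg.Agent.S1323.isQuasisimple_of_isSimple_nc (H := alternatingGroup (Fin 5))
    alt_five_not_comm
  refine le_antisymm ?_ ?_
  · refine CfsgLib.Cores.generalizedFitting_le_of_selfCentralizing hN.isSubnormal ?_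
      (by rw [evenRange_centralizer hC]; exact bot_le)
    refine sSup_le fun F hF => ?_
    obtain ⟨hFn, hFnil⟩ := hF
    haveI := hFn
    rcases evenRange_minimal hC (F ⊓ Φ.range) inferInstance inf_le_right with h | h
    · have hle : F ≤ centralizer (Φ.range : Set G) := fun k hk =>
        mem_centralizer_iff.mpr fun l hl => Subgroup.commute_of_normal_of_disjoint Φ.range F
          inferInstance inferInstance (disjoint_iff.mpr (by rw [inf_comm]; exact h)) l k hl hk
      rw [evenRange_centralizer hC] at hle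
      exact hle.trans bot_le
    · exfalso
      haveI := hFnil
      have hle : Φ.range ≤ F := h ▸ inf_le_left
      let ψ : alternatingGroup (Fin 5) →* F :=
        (Φ.comp (MonoidHom.inl _ _)).codRestrict F fun t => hle ⟨(t, 1), rfl⟩
      have hψ : Function.Injective ψ := fun a b h => by
        have := evenHom_inj hC (congrArg (fun v : F => (v : G)) h)
        exact congrArg Prod.fst this
      haveI : Group.IsSolvable (alternatingGroup (Fin 5)) :=
        Group.isSolvable_of_isSolvable_injective hψ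
      obtain ⟨a, b, hab⟩ := alt_five_not_comm
      exact hab (IsSimpleGroup.comm_iff_isSolvable.mpr ‹_› a b)
  · have hrange : ∀ f : alternatingGroup (Fin 5) →* alternatingGroup (Fin 5) × alternatingGroup (Fin 5),
        Function.Injective f → f.range.Normal → Cfsg.IsComponent (f.range.map Φ) := by
      intro f hf hfn
      refine CfsgLib.Cores.isComponent_map_of_injective Φ (evenHom_inj hC) hN.isSubnormal
        ⟨hfn.isSubnormal, ?_⟩
      exact CfsgLib.Cores.isQuasisimple_congr (MonoidHom.ofInjective hf) hqs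
    have hl : (MonoidHom.inl (alternatingGroup (Fin 5)) (alternatingGroup (Fin 5))).range.Normal :=
      ⟨by rintro _ ⟨a, rfl⟩ g; exact ⟨g.1 * a * g.1⁻¹, Prod.ext (by simp) (by simp)⟩⟩
    have hr : (MonoidHom.inr (alternatingGroup (Fin 5)) (alternatingGroup (Fin 5))).range.Normal :=
      ⟨by rintro _ ⟨a, rfl⟩ g; exact ⟨g.2 * a * g.2⁻¹, Prod.ext (by simp) (by simp)⟩⟩
    have h1 := hrange _ (fun a b h => congrArg Prod.fst h) hl
    have h2 := hrange _ (fun a b h => congrArg Prod.snd h) hr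
    rintro _ ⟨q, rfl⟩
    have e : Φ q = Φ (q.1, 1) * Φ (1, q.2) := by rw [← map_mul]; simp
    rw [e]
    refine mul_mem (le_sup_left (b := Cfsg.fittingSubgroup G) ?_)
      (le_sup_left (b := Cfsg.fittingSubgroup G) ?_)
    · exact le_sSup (show _ ∈ {K : Subgroup G | Cfsg.IsComponent K} from h1) ⟨_, ⟨q.1, rfl⟩, rfl⟩
    · exact le_sSup (show _ ∈ {K : Subgroup G | Cfsg.IsComponent K} from h2) ⟨_, ⟨q.2, rfl⟩, rfl⟩

omit hC in
/-- The second type gives `(A₅ × A₅).2²`. -/
theorem prod_case (hII : C.r = C.kH r5) : ∃ N : Subgroup G, N.Normal ∧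
    Cfsg.generalizedFittingSubgroup G = N ∧
    Nonempty (N ≃* alternatingGroup (Fin 5) × alternatingGroup (Fin 5)) ∧
    (∀ K : Subgroup G, K.Normal → K ≤ N → K = ⊥ ∨ K = N) ∧
    N.index = 4 ∧ ∀ g : G, g ^ 2 ∈ N := by
  have hC : C.ProdHyp := ⟨hII, C.centU_norm hII⟩
  exact ⟨(evenHom hC).range, evenRange_normal hC, fStar_eq hC,
    ⟨(MonoidHom.ofInjective (evenHom_inj hC)).symm⟩, evenRange_minimal hC, evenRange_index hC,
    evenRange_sq hC⟩

end Config

end CfsgLib.SymEight40
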