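import Cfsg.Agent.SymEight40.SymCase
import Cfsg.Agent.SymEight40.EightTables

/-!
The first type of configuration is the symmetric group of degree eight.
-/

set_option autoImplicit false

open Equiv Subgroup

namespace CfsgLib.SymEight40

theorem eight_misc : (swap 3 4 : Perm (Fin 8)) = R8 0 ∧
    (swap 0 1 * swap 1 2 : Perm (Fin 8)) * R8 0 = R8 0 * (swap 0 1 * swap 1 2) ∧
    (swap 0 1 * swap 1 5 : Perm (Fin 8)) * R8 0 = R8 0 * (swap 0 1 * swap 1 5) ∧
    (swap 0 1 * swap 1 2 : Perm (Fin 8)) * (swap 0 1 * swap 1 2) * (swap 0 1 * swap 1 2) = 1 ∧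
    (swap 0 1 * swap 1 5 : Perm (Fin 8)) * (swap 0 1 * swap 1 5) * (swap 0 1 * swap 1 5) = 1 ∧
    (swap 0 1 * swap 1 2 : Perm (Fin 8)) * (swap 0 1 * swap 1 5) ≠
      (swap 0 1 * swap 1 5) * (swap 0 1 * swap 1 2) ∧
    (swap 0 1 : Perm (Fin 8)) * R8 1 = R8 1 * swap 0 1 ∧
    (swap 1 2 : Perm (Fin 8)) * R8 1 = R8 1 * swap 1 2 ∧
    (swap 0 5 : Perm (Fin 8)) * R8 2 = R8 2 * swap 0 5 ∧
    (swap 1 7 : Perm (Fin 8)) * R8 2 = R8 2 * swap 1 7 ∧
    (swap 0 5 : Perm (Fin 8)) * swap 1 7 * (swap 0 5 * swap 1 7) = 1 ∧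
    ((swap 0 5 : Perm (Fin 8)) * swap 1 7).support.card = 4 := by
  decide +kernel

theorem fin4_cases : ∀ j : Fin 4, (j ≠ 0 → j = 1 ∨ j = 2 ∨ j = 3) ∧
    (j ≠ 0 → j ≠ 1 → j = 2 ∨ j = 3) ∧ (j.1 ≤ 2 → j = 0 ∨ j = 1 ∨ j = 2) := by decide

theorem swap_isConj (a b : Fin 8) (h : a ≠ b) : IsConj (R8 0) (swap a b) :=
  Equiv.Perm.isConj_swap (by decide) h

theorem normal_map_trivial {G : Type*} [Group G] {P : Type*} [Group P] (Θ : P →* G)
    (W : Subgroup G) (T : P) (hW : ∀ g, Commute g (Θ T) → ∀ x ∈ W, g * x * g⁻¹ ∈ W) :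
    ∀ g, g * T = T * g → ∀ x ∈ W.comap Θ, g * x * g⁻¹ ∈ W.comap Θ := by
  intro g hg x hx
  rw [mem_comap] at hx ⊢
  rw [map_mul, map_mul, map_inv]
  exact hW _ (by rw [commute_iff_eq, ← map_mul, ← map_mul, hg]) _ hx

namespace Config

variable {G : Type*} [Group G] [Finite G] (C : Config G)

/-- The first type gives the symmetric group of degree eight. -/
theorem sym_case (hI : C.r = C.kH p5) : Nonempty (G ≃* Perm (Fin 8)) := by
  classical
  obtain ⟨Θ, inj, hu', -, hr, hz, hw, hK⟩ := C.exists_theta hI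
  set H := Θ.range with hH
  have hu : Θ (R8 0) = C.u := hu'
  set v := C.u * C.r with hvdef
  have hv : Θ (R8 1) = v := by
    rw [hvdef, ← hu', ← hr, ← map_mul]; rfl
  have hy : Θ A8 = C.y := by
    rw [A8, map_mul, hz, hw, ← map_mul]
    congr 1
  have hvk : v = C.kH (u5 * p5) := by rw [hvdef, hI, map_mul, C.kH_u5]
  have pull : ∀ a b, Commute (Θ a) (Θ b) ↔ a * b = b * a := fun a b => by
    rw [commute_iff_eq, ← map_mul, ← map_mul, inj.eq_iff]
  -- fusion
  have n01 : ∀ g, g * C.u * g⁻¹ ≠ Θ (R8 1) := fun g => by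
    rw [hv, hvk]; exact C.conj_u_ne_kH g (by decide +kernel)
  have n0 : ∀ j : Fin 4, j ≠ 0 → ∀ g, g * C.u * g⁻¹ ≠ Θ (R8 j) := by
    intro j hj g h
    obtain rfl | rfl | rfl := (fin4_cases j).1 hj
    · exact n01 g h
    all_goals
      have hc := C.conj_u_y g (by rw [h, ← hy, pull]; simp only [R8_misc.2.2.2.2.2.2.2])
      rw [h, ← hu] at hc
      exact absurd (inj hc) (by decide +kernel)
  have n1 : ∀ j : Fin 4, j ≠ 0 → j ≠ 1 → ∀ g, g * v * g⁻¹ ≠ Θ (R8 j) := by
    intro j hj hj1 g h
    have hya : Commute (Θ (R8 j)) C.y := by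
      rw [← hy, pull]
      obtain rfl | rfl := (fin4_cases j).2.1 hj hj1
      · exact R8_misc.2.2.2.2.2.2.2.1.symm
      · exact R8_misc.2.2.2.2.2.2.2.2.symm
    rw [← h] at hya
    refine C.no_y (v := v) ?_ ?_ ?_ (fun g' hg => n01 g' (by rw [hv]; exact hg)) g⁻¹ ?_
    · rw [← hv, ← map_mul, (R8_facts.1 1).1, map_one]
    · rw [← hv]; exact fun e => (R8_facts.1 1).2 (inj (e.trans Θ.map_one.symm))
    · rw [← hv, ← hz, pull]; decide +kernel
    · have := commute_conj hya g⁻¹
      simpa [mul_assoc] using this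
  have hmemH : ∀ p, Θ p ∈ H := fun p => ⟨p, rfl⟩
  have class0 : ∀ g, g * C.u * g⁻¹ ∈ H → ∃ q, g * C.u * g⁻¹ = Θ q ∧ IsConj (R8 0) q := by
    rintro g ⟨q, hq⟩
    refine ⟨q, hq.symm, ?_⟩
    have hq2 : q * q = 1 := inj (by rw [map_mul, hq, map_one]; exact conj_sq C.u_sq g)
    have hq1 : q ≠ 1 := fun e => C.u_ne (by
      rw [e, map_one] at hq; exact conj_eq_one_iff.mp hq.symm)
    obtain ⟨j, hj⟩ := invol_cases hq2 hq1
    by_cases hj0 : j = 0
    · exact hj0 ▸ hj
    exfalso
    obtain ⟨c, hc⟩ := isConj_iff.mp hj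
    refine n0 j hj0 ((Θ c)⁻¹ * g) ?_
    calc (Θ c)⁻¹ * g * C.u * ((Θ c)⁻¹ * g)⁻¹ = (Θ c)⁻¹ * (g * C.u * g⁻¹) * Θ c := by group
      _ = _ := by rw [← hq, ← hc, map_mul, map_mul, map_inv]; group
  have class1 : ∀ g, g * v * g⁻¹ ∈ H → ∃ q, g * v * g⁻¹ = Θ q ∧ IsConj (R8 1) q := by
    rintro g ⟨q, hq⟩
    refine ⟨q, hq.symm, ?_⟩
    have hv2 : v * v = 1 := by rw [← hv, ← map_mul, (R8_facts.1 1).1, map_one]
    have hq2 : q * q = 1 := inj (by rw [map_mul, hq, map_one]; exact conj_sq hv2 g)
    have hq1 : q ≠ 1 := fun e => by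
      rw [e, map_one] at hq
      exact (R8_facts.1 1).2 (inj (by rw [hv, conj_eq_one_iff.mp hq.symm, map_one]))
    obtain ⟨j, hj⟩ := invol_cases hq2 hq1
    obtain ⟨c, hc⟩ := isConj_iff.mp hj
    have hjg : (Θ c)⁻¹ * g * v * ((Θ c)⁻¹ * g)⁻¹ = Θ (R8 j) := by
      calc (Θ c)⁻¹ * g * v * ((Θ c)⁻¹ * g)⁻¹ = (Θ c)⁻¹ * (g * v * g⁻¹) * Θ c := by group
        _ = _ := by rw [← hq, ← hc, map_mul, map_mul, map_inv]; group
    by_cases hj1 : j = 1
    · exact hj1 ▸ hj
    exfalso
    by_cases hj0 : j = 0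
    · subst hj0
      refine n01 ((Θ c)⁻¹ * g)⁻¹ ?_
      rw [hv, ← hu, ← hjg]; group
    exact n1 j hj0 hj1 _ hjg
  have conjH : ∀ (j : Fin 4) (q : Perm (Fin 8)), IsConj (R8 j) q →
      (∀ g, Commute g (Θ (R8 j)) → g ∈ H) → ∀ g, Commute g (Θ q) → g ∈ H := by
    intro j q hq hC g hg
    obtain ⟨c, hc⟩ := isConj_iff.mp hq
    have h := hC ((Θ c)⁻¹ * g * Θ c) (by
      have := commute_conj hg (Θ c)⁻¹
      rw [← hc, map_mul, map_mul, map_inv, inv_inv] at this
      simpa [mul_assoc] using this)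
    simpa [mul_assoc] using mul_mem (mul_mem (hmemH c) h) (inv_mem (hmemH c))
  -- the centraliser of `u`
  have Cu : ∀ g, Commute g C.u → g ∈ H := by
    rcases C.centU_cases with hN | ⟨π, hπ, hker⟩
    · exfalso
      have hd : ∀ p : Perm (Fin 8), p * R8 0 = R8 0 * p → p * p * p = 1 → Θ p ∈ C.D :=
        fun p hp h3 => C.cube_mem_D (hN _ (by rw [← hu, pull]; exact hp))
          (by rw [← map_mul, ← map_mul, h3, map_one])
      exact eight_misc.2.2.2.2.2.1 ((pull _ _).mp (C.D_comm
        (hd _ eight_misc.2.1 eight_misc.2.2.2.1) (hd _ eight_misc.2.2.1 eight_misc.2.2.2.2.1)))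
    · have hk : Nat.card π.ker ≤ 2 := by
        refine (Nat.card_le_card_of_injective (fun g : π.ker => decide ((g : G) = 1))
          fun a b h => ?_).trans_eq (by rw [Nat.card_eq_fintype_card, Fintype.card_bool])
        have h' : ((a : G) = 1 ↔ (b : G) = 1) := by simpa using h
        refine Subtype.ext (Subtype.ext ?_)
        rcases (hker a).mp a.2 with ha | ha <;> rcases (hker b).mp b.2 with hb | hb
        · rw [ha, hb]
        · exact absurd (hb.symm.trans (h'.mp ha)) C.u_ne
        · exact absurd (ha.symm.trans (h'.mpr hb)) C.u_ne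
        · rw [ha, hb]
      have hcard : Nat.card (centralizer ({C.u} : Set G)) ≤ 1440 := by
        rw [Subgroup.card_eq_card_quotient_mul_card_subgroup π.ker,
          Nat.card_congr (QuotientGroup.quotientKerEquivOfSurjective π hπ).toEquiv,
          Nat.card_perm, Nat.card_fin]
        calc Nat.factorial 6 * Nat.card π.ker ≤ Nat.factorial 6 * 2 := Nat.mul_le_mul_left _ hk
          _ = 1440 := rfl
      let f : centralizer ({R8 0} : Set (Perm (Fin 8))) → centralizer ({C.u} : Set G) := fun p =>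
        ⟨Θ p, mem_centralizer_singleton_iff.mpr (by
          rw [← hu, ← map_mul, ← map_mul, mem_centralizer_singleton_iff.mp p.2])⟩
      have hf : Function.Injective f := fun a b h =>
        Subtype.ext (inj (congrArg (fun x : centralizer ({C.u} : Set G) => (x : G)) h))
      have hbij := (Nat.bijective_iff_injective_and_card f).mpr ⟨hf, le_antisymm
        (Nat.card_le_card_of_injective f hf) (hcard.trans_eq (by rw [card_centralizer_R8]; rfl))⟩
      intro g hg
      obtain ⟨p, hp⟩ := hbij.2 ⟨g, mem_centralizer_singleton_iff.mpr hg.eq⟩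
      exact ⟨p, congrArg (fun x : centralizer ({C.u} : Set G) => (x : G)) hp⟩
  have Ctr : ∀ q, IsConj (R8 0) q → ∀ g, Commute g (Θ q) → g ∈ H := fun q hq =>
    conjH 0 q hq (fun g hg => Cu g (by rw [← hu]; exact hg))
  have Cz : ∀ g, Commute g C.z → g ∈ H := by
    intro g hg
    obtain ⟨i, b, rfl⟩ := C.cent_z hg
    rw [show ((c3 ^ i.1, b) : M) = dM 1 0 ^ i.1 * (1, b) from Prod.ext (by simp [dM]) (by simp [dM]),
      map_mul, map_pow]
    exact mul_mem (pow_mem (show C.z ∈ H from ⟨_, hz⟩) _) (hK b)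
  -- an odd subgroup inverted by transpositions
  have inverted : ∀ (W : Subgroup G), (∀ x ∈ W, x ∈ H → x = 1) → ∀ q, IsConj (R8 0) q →
      (∀ x ∈ W, Θ q * x * Θ q ∈ W) → ∀ x ∈ W, Θ q * x * Θ q = x⁻¹ := by
    intro W hWH q hq hn
    refine inverted_of_fixfree W ?_ hn fun x hx hc => hWH x hx (Ctr q hq x hc.symm)
    obtain ⟨a, b, -, rfl⟩ := swap_of_isConj hq
    rw [← map_mul, swap_mul_self, map_one]
  -- the double transpositions
  have Cv : ∀ g, Commute g v → g ∈ H := by
    set L := centralizer ({v} : Set G) with hL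
    have hmem : ∀ g, g ∈ L ↔ Commute g v := fun g => mem_centralizer_singleton_iff
    have huL : C.u ∈ L := (hmem _).mpr (by rw [← hu, ← hv, pull]; exact R8_misc.2.2.2.2.2.2.1)
    have hvL : v ∈ L := (hmem _).mpr (Commute.refl v)
    have huv : C.u * v = C.r := by
      rw [← hu, ← hv, ← map_mul, R8_misc.2.1, hr]
    have hvu : v * C.u = C.r := by
      rw [← hu, ← hv, ← map_mul, R8_misc.2.2.1, hr]
    obtain ⟨W, hWn, hWodd, hW⟩ := exists_core (⟨C.u, huL⟩ : L) ⟨v, hvL⟩ (Subtype.ext C.u_sq)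
      (Subtype.ext (by change v * v = 1; rw [← hv, ← map_mul, (R8_facts.1 1).1, map_one]))
      (fun g => Subtype.ext ((hmem g).mp g.2).eq)
      (fun e => n01 1 (by rw [hv]; simpa using congrArg Subtype.val e))
      (fun e => C.u_ne (congrArg Subtype.val e)) (by
        intro g hg
        set d : G := (g : G) * C.u * (g : G)⁻¹ with hd
        have hd2 : d * d = 1 := conj_sq C.u_sq _
        rcases hg with hg | hg
        · have hg' : d * C.u * d * C.u = 1 := congrArg Subtype.val hg
          have hdu : Commute d C.u := by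
            have := eq_inv_of_mul_eq_one_left hg'
            rw [inv_of_sq C.u_sq] at this
            have h' := congrArg (· * d) this
            simp only [mul_assoc, hd2, mul_one] at h'
            exact h'
          obtain ⟨q, hq, hqc⟩ := class0 g (Cu d hdu)
          obtain ⟨a, b, hab, rfl⟩ := swap_of_isConj hqc
          have hdv : d * v = (g : G) * C.r * (g : G)⁻¹ := by
            rw [← huv, hd, show (g : G) * (C.u * v) * (g : G)⁻¹ =
              (g : G) * C.u * (g : G)⁻¹ * ((g : G) * v * (g : G)⁻¹) by group,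
              conj_eq_of_commute ((hmem _).mp g.2)]
          have hru : C.r = Θ (swap 3 6 * swap 4 7) * C.u * (Θ (swap 3 6 * swap 4 7))⁻¹ := by
            rw [← hr, ← hu, ← map_inv, ← map_mul, ← map_mul, R8_misc.1]
          rw [hru] at hdv
          have e : Θ (swap a b * R8 1) = (g : G) * Θ (swap 3 6 * swap 4 7) * C.u *
              ((g : G) * Θ (swap 3 6 * swap 4 7))⁻¹ := by
            rw [map_mul, hv, ← hq, hdv]; group
          obtain ⟨q', hq', hqc'⟩ := class0 ((g : G) * Θ (swap 3 6 * swap 4 7)) (e ▸ hmemH _)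
          obtain ⟨c, c', -, rfl⟩ := swap_of_isConj hqc'
          rcases pair_table a b c c' hab (inj (e.trans hq')) with h | h
          · left
            refine Subtype.ext ?_
            change d = C.u
            rw [hd, hq, h, hu]
          · right
            refine Subtype.ext ?_
            change d = C.u * v
            rw [hd, hq, h, hr, huv]
        · exfalso
          have hg' : d * C.u * d * C.u = v := congrArg Subtype.val hg
          have hdr : d * C.u * d⁻¹ = C.r := by
            rw [inv_of_sq hd2, ← hvu, ← hg', mul_assoc (d * C.u * d), C.u_sq, mul_one]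
          set b0 := Θ (swap 3 6 * swap 4 7)
          have hb : b0 * C.u * b0⁻¹ = C.r := by
            rw [← hr, ← hu, ← map_inv, ← map_mul, ← map_mul, R8_misc.1]
          have hc : Commute (b0⁻¹ * d) C.u := commute_of_conj_eq (by
            calc b0⁻¹ * d * C.u * (b0⁻¹ * d)⁻¹ = b0⁻¹ * (d * C.u * d⁻¹) * b0 := by group
              _ = C.u := by rw [hdr, ← hb]; group)
          have hdH : d ∈ H := mul_inv_cancel_left b0 d ▸ mul_mem (hmemH _) (Cu _ hc)
          obtain ⟨q, hq, hqc⟩ := class0 g hdH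
          obtain ⟨a, b, -, rfl⟩ := swap_of_isConj hqc
          refine swap_table a b (inj ?_)
          rw [map_mul, map_mul, map_inv, ← hq, hu, hr]
          exact hdr)
    set W' := W.map L.subtype
    have hW'odd : Odd (Nat.card W') := by
      rwa [← Nat.card_congr (equivMapOfInjective W _ L.subtype_injective).toEquiv]
    have hW'n : ∀ g, Commute g v → ∀ x ∈ W', g * x * g⁻¹ ∈ W' := by
      rintro g hg _ ⟨x, hx, rfl⟩
      exact ⟨_, hWn.conj_mem x hx ⟨g, (hmem g).mpr hg⟩, rfl⟩
    have hbot : W'.comap Θ = ⊥ := by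
      obtain ⟨f1, f2, f3, f4, f5⟩ := A8_facts (swap 0 1 * swap 1 2, R8 1, swap 2 5) (by simp)
      refine odd_normal_trivial (centralizer ({R8 1} : Set (Perm (Fin 8)))) 6
        (by rw [card_centralizer_R8]; rfl) _ _ (mem_centralizer_singleton_iff.mpr f1) f3 f4
        (mem_centralizer_singleton_iff.mpr f2) f5 _ (fun p hp => ?_) ?_ (fun g hg =>
          normal_map_trivial Θ W' (R8 1) (fun g hg => hW'n g (hv ▸ hg)) g
            (mem_centralizer_singleton_iff.mp hg))
      · obtain ⟨x, -, hx⟩ := mem_comap.mp hp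
        rw [mem_centralizer_singleton_iff]
        refine (pull _ _).mp ?_
        rw [← hx, hv]
        exact (hmem _).mp x.2
      · refine hW'odd.of_dvd_nat (Subgroup.card_dvd_of_injective
          ((Θ.comp (W'.comap Θ).subtype).codRestrict W' fun p => p.2) fun a b h => ?_)
        exact Subtype.ext (inj (congrArg (fun x : W' => (x : G)) h))
    have hWH : ∀ x ∈ W', x ∈ H → x = 1 := by
      rintro x hx ⟨p, rfl⟩
      have : p ∈ W'.comap Θ := hx
      rw [hbot, mem_bot] at this
      rw [this, map_one]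
    have hinv : ∀ a b : Fin 8, a ≠ b → swap a b * R8 1 = R8 1 * swap a b →
        ∀ x ∈ W', Θ (swap a b) * x * Θ (swap a b) = x⁻¹ := by
      intro a b hab hc
      refine inverted W' hWH _ (swap_isConj a b hab) fun x hx => ?_
      have := hW'n (Θ (swap a b)) (by rw [← hv, pull]; exact hc) x hx
      rwa [← map_inv, swap_inv] at this
    have hW1 : ∀ x ∈ W', x = 1 := fun x hx => hWH x hx (Cz x (by
      rw [← hz, map_mul]
      exact (commute_mul_of_inverted (by rw [← map_mul, swap_mul_self, map_one])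
        (by rw [← map_mul, swap_mul_self, map_one])
        (hinv 0 1 (by decide) eight_misc.2.2.2.2.2.2.1)
        (hinv 1 2 (by decide) eight_misc.2.2.2.2.2.2.2.1) x hx).symm))
    intro g hg
    obtain ⟨x, hx, h⟩ := hW ⟨g, (hmem g).mpr hg⟩
    have hx1 : (x : G) = 1 := hW1 _ ⟨x, hx, rfl⟩
    rcases h with h | h
    · have h' : (x : G) * g * C.u * ((x : G) * g)⁻¹ = C.u := congrArg Subtype.val h
      rw [hx1, one_mul] at h'
      exact Cu g (commute_of_conj_eq h')
    · have h' : (x : G) * g * C.u * ((x : G) * g)⁻¹ = C.u * v := congrArg Subtype.val h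
      rw [hx1, one_mul, huv] at h'
      have hb : Θ (swap 3 6 * swap 4 7) * C.u * (Θ (swap 3 6 * swap 4 7))⁻¹ = C.r := by
        rw [← hr, ← hu, ← map_inv, ← map_mul, ← map_mul, R8_misc.1]
      have hc : Commute ((Θ (swap 3 6 * swap 4 7))⁻¹ * g) C.u := commute_of_conj_eq (by
        calc _ = (Θ (swap 3 6 * swap 4 7))⁻¹ * (g * C.u * g⁻¹) * Θ (swap 3 6 * swap 4 7) := by group
          _ = C.u := by rw [h', ← hb]; group)
      exact mul_inv_cancel_left (Θ (swap 3 6 * swap 4 7)) g ▸ mul_mem (hmemH _) (Cu _ hc)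
  have Cd : ∀ q, IsConj (R8 1) q → ∀ g, Commute g (Θ q) → g ∈ H := fun q hq =>
    conjH 1 q hq (fun g hg => Cv g (by rw [← hv]; exact hg))
  -- the triple transpositions
  have Ci : ∀ g, Commute g (Θ (R8 2)) → g ∈ H := by
    set i := Θ (R8 2) with hi
    set L := centralizer ({i} : Set G) with hL
    have hmem : ∀ g, g ∈ L ↔ Commute g i := fun g => mem_centralizer_singleton_iff
    have huL : C.u ∈ L := (hmem _).mpr (by rw [← hu, hi, pull]; exact R8_misc.2.2.2.2.2.1)
    have hiL : i ∈ L := (hmem _).mpr (Commute.refl i)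
    have hiu : i * C.u = Θ (R8 3) := by rw [← hu, hi, ← map_mul, R8_misc.2.2.2.2.1]
    have hui : C.u * i = Θ (R8 3) := by rw [← hu, hi, ← map_mul, R8_misc.2.2.2.1]
    obtain ⟨W, hWn, hWodd, hW⟩ := exists_core (⟨C.u, huL⟩ : L) ⟨i, hiL⟩ (Subtype.ext C.u_sq)
      (Subtype.ext (by change i * i = 1; rw [hi, ← map_mul, (R8_facts.1 2).1, map_one]))
      (fun g => Subtype.ext ((hmem g).mp g.2).eq)
      (fun e => n0 2 (by decide) 1 (by simpa using congrArg Subtype.val e))
      (fun e => C.u_ne (congrArg Subtype.val e)) (by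
        intro g hg
        set d : G := (g : G) * C.u * (g : G)⁻¹ with hd
        have hd2 : d * d = 1 := conj_sq C.u_sq _
        rcases hg with hg | hg
        · have hg' : d * C.u * d * C.u = 1 := congrArg Subtype.val hg
          have hdu : Commute d C.u := by
            have := eq_inv_of_mul_eq_one_left hg'
            rw [inv_of_sq C.u_sq] at this
            have h' := congrArg (· * d) this
            simp only [mul_assoc, hd2, mul_one] at h'
            exact h'
          obtain ⟨q, hq, hqc⟩ := class0 g (Cu d hdu)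
          obtain ⟨a, b, hab, rfl⟩ := swap_of_isConj hqc
          have hdi : Commute d i := by
            have := commute_conj (((hmem _).mp huL)) (g : G)
            rwa [conj_eq_of_commute ((hmem _).mp g.2)] at this
          have hc : swap a b * R8 2 = R8 2 * swap a b := (pull _ _).mp (by rw [← hq, ← hi]; exact hdi)
          rcases triple_table a b hab hc with h | h
          · left
            refine Subtype.ext ?_
            change d = C.u
            rw [hd, hq, h, hu]
          · exfalso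
            have e : (g : G) * Θ (R8 3) * (g : G)⁻¹ = Θ (swap a b * R8 2) := by
              rw [map_mul, ← hq, ← hi, ← hui, show (g : G) * (C.u * i) * (g : G)⁻¹ =
                (g : G) * C.u * (g : G)⁻¹ * ((g : G) * i * (g : G)⁻¹) by group,
                conj_eq_of_commute ((hmem _).mp g.2)]
            have hsq : swap a b * R8 2 * (swap a b * R8 2) = 1 := by
              rw [mul_assoc, ← mul_assoc (R8 2), ← hc, mul_assoc (swap a b), (R8_facts.1 2).1,
                mul_one, swap_mul_self]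
            obtain ⟨c, hc'⟩ := isConj_iff.mp (isConj_R8 (j := 1) hsq
              (fun e => by simp [e] at h) h)
            refine n1 3 (by decide) (by decide) ((g : G)⁻¹ * Θ c) ?_
            calc (g : G)⁻¹ * Θ c * v * ((g : G)⁻¹ * Θ c)⁻¹
                = (g : G)⁻¹ * (Θ c * v * (Θ c)⁻¹) * g := by group
              _ = _ := by rw [← hv, ← map_inv, ← map_mul, ← map_mul, hc', ← e]; group
        · exfalso
          have hg' : d * C.u * d * C.u = i := congrArg Subtype.val hg
          refine n0 3 (by decide) d ?_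
          rw [inv_of_sq hd2, ← hiu, ← hg', mul_assoc (d * C.u * d), C.u_sq, mul_one])
    set W' := W.map L.subtype
    have hW'odd : Odd (Nat.card W') := by
      rwa [← Nat.card_congr (equivMapOfInjective W _ L.subtype_injective).toEquiv]
    have hW'n : ∀ g, Commute g i → ∀ x ∈ W', g * x * g⁻¹ ∈ W' := by
      rintro g hg _ ⟨x, hx, rfl⟩
      exact ⟨_, hWn.conj_mem x hx ⟨g, (hmem g).mpr hg⟩, rfl⟩
    have hbot : W'.comap Θ = ⊥ := by
      obtain ⟨f1, f2, f3, f4, f5⟩ := A8_facts (A8, R8 2, swap 0 5) (by simp)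
      refine odd_normal_trivial (centralizer ({R8 2} : Set (Perm (Fin 8)))) 5
        (by rw [card_centralizer_R8]; rfl) _ _ (mem_centralizer_singleton_iff.mpr f1) f3 f4
        (mem_centralizer_singleton_iff.mpr f2) f5 _ (fun p hp => ?_) ?_ (fun g hg =>
          normal_map_trivial Θ W' (R8 2) hW'n g (mem_centralizer_singleton_iff.mp hg))
      · obtain ⟨x, -, hx⟩ := mem_comap.mp hp
        rw [mem_centralizer_singleton_iff]
        refine (pull _ _).mp ?_
        rw [← hx, ← hi]
        exact (hmem _).mp x.2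
      · refine hW'odd.of_dvd_nat (Subgroup.card_dvd_of_injective
          ((Θ.comp (W'.comap Θ).subtype).codRestrict W' fun p => p.2) fun a b h => ?_)
        exact Subtype.ext (inj (congrArg (fun x : W' => (x : G)) h))
    have hWH : ∀ x ∈ W', x ∈ H → x = 1 := by
      rintro x hx ⟨p, rfl⟩
      have : p ∈ W'.comap Θ := hx
      rw [hbot, mem_bot] at this
      rw [this, map_one]
    have hinv : ∀ a b : Fin 8, a ≠ b → swap a b * R8 2 = R8 2 * swap a b →
        ∀ x ∈ W', Θ (swap a b) * x * Θ (swap a b) = x⁻¹ := by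
      intro a b hab hc
      refine inverted W' hWH _ (swap_isConj a b hab) fun x hx => ?_
      have := hW'n (Θ (swap a b)) (by rw [hi, pull]; exact hc) x hx
      rwa [← map_inv, swap_inv] at this
    have hW1 : ∀ x ∈ W', x = 1 := fun x hx => hWH x hx (Cd (swap 0 5 * swap 1 7)
      (isConj_R8 eight_misc.2.2.2.2.2.2.2.2.2.2.1
        (fun e => by have := eight_misc.2.2.2.2.2.2.2.2.2.2.2; simp [e] at this)
        1 eight_misc.2.2.2.2.2.2.2.2.2.2.2) x (by
      rw [map_mul]
      exact (commute_mul_of_inverted (by rw [← map_mul, swap_mul_self, map_one])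
        (by rw [← map_mul, swap_mul_self, map_one])
        (hinv 0 5 (by decide) eight_misc.2.2.2.2.2.2.2.2.1)
        (hinv 1 7 (by decide) eight_misc.2.2.2.2.2.2.2.2.2.1) x hx).symm))
    intro g hg
    obtain ⟨x, hx, h⟩ := hW ⟨g, (hmem g).mpr hg⟩
    have hx1 : (x : G) = 1 := hW1 _ ⟨x, hx, rfl⟩
    rcases h with h | h
    · have h' : (x : G) * g * C.u * ((x : G) * g)⁻¹ = C.u := congrArg Subtype.val h
      rw [hx1, one_mul] at h'
      exact Cu g (commute_of_conj_eq h')
    · exfalso
      have h' : (x : G) * g * C.u * ((x : G) * g)⁻¹ = C.u * i := congrArg Subtype.val h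
      rw [hui] at h'
      exact n0 3 (by decide) _ h'
  -- the whole group
  have htop : H = ⊤ := by
    refine top_of_two_classes H C.u v C.u_sq (by rw [← hv, ← map_mul, (R8_facts.1 1).1, map_one])
      (fun g => by rw [← hv]; exact n01 g)
      (by rw [← hv]; exact fun e => (R8_facts.1 1).2 (inj (e.trans Θ.map_one.symm))) Cu Cv ?_ ?_
    · intro g hg
      obtain ⟨q, hq, hqc⟩ := class1 g hg
      obtain ⟨c, hc⟩ := isConj_iff.mp hqc
      exact ⟨Θ c, hmemH c, by rw [hq, ← hv, ← map_inv, ← map_mul, ← map_mul, hc]⟩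
    · intro w hwu hw2 hw1 hconj
      obtain ⟨p, hp⟩ := Cu w hwu
      have hp2 : p * p = 1 := inj (by rw [map_mul, hp, hw2, map_one])
      have hp1 : p ≠ 1 := fun e => hw1 (by rw [← hp, e, map_one])
      have hmem' : C.u * w ∈ H := mul_mem (hu ▸ hmemH _) (hp ▸ hmemH p)
      have heq : C.u * w = Θ (R8 0 * p) := by rw [map_mul, hu, hp]
      have hsupp : (R8 0 * p).support.card ≤ 4 := by
        rcases hconj with ⟨g, hg⟩ | ⟨g, hg⟩
        · obtain ⟨q, hq, hqc⟩ := class0 g (hg ▸ hmem')
          rw [← inj (hq.symm.trans (hg.trans heq)), card_isConj_support hqc]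
          decide
        · obtain ⟨q, hq, hqc⟩ := class1 g (hg ▸ hmem')
          rw [← inj (hq.symm.trans (hg.trans heq)), card_isConj_support hqc]
          decide
      have hp6 : p.support.card ≤ 6 := by
        have e : p = R8 0 * (R8 0 * p) := by rw [← mul_assoc, (R8_facts.1 0).1, one_mul]
        rw [e]
        refine (Finset.card_le_card (Equiv.Perm.support_mul_le _ _)).trans
          ((Finset.card_union_le _ _).trans ?_)
        rw [R8_facts.2 0]
        change 2 + _ ≤ 6
        omega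
      obtain ⟨j, hj⟩ := invol_cases hp2 hp1
      have hjs := card_isConj_support hj
      obtain rfl | rfl | rfl := (fin4_cases j).2.2 (by omega)
      · exact fun g hg => Ctr p hj g (hp ▸ hg)
      · exact fun g hg => Cd p hj g (hp ▸ hg)
      · exact fun g hg => conjH 2 p hj Ci g (hp ▸ hg)
  exact ⟨(MulEquiv.ofBijective Θ ⟨inj, MonoidHom.range_eq_top.mp htop⟩).symm⟩

end Config

end CfsgLib.SymEight40
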