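import Mathlib

/-!
A finite fact about the symmetric group of degree six: an embedding of the relations of the
symmetric group of degree five and an involution centralising its first two generators.
-/

set_option autoImplicit false
set_option maxRecDepth 20000

open Equiv

namespace CfsgLib.SymEight40

/-- Words in the adjacent transpositions of three representative involutions. -/
def rep6 : Fin 3 → Perm (Fin 6)
  | 0 => swap 0 1
  | 1 => swap 0 1 * swap 2 3
  | _ => swap 0 1 * swap 2 3 * swap 4 5

/-- Products of at most three disjoint transpositions, as a list. -/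
def invList6 : List (Perm (Fin 6)) :=
  let p : List (Fin 6 × Fin 6) :=
    (List.finRange 6).flatMap fun a => (List.finRange 6).filterMap fun b =>
      if a < b then some (a, b) else none
  (p.map fun x => swap x.1 x.2) ++
  (p.flatMap fun x => p.filterMap fun y =>
    if x.1 < y.1 ∧ x.2 ≠ y.1 ∧ x.2 ≠ y.2 then some (swap x.1 x.2 * swap y.1 y.2) else none) ++
  (p.flatMap fun x => p.flatMap fun y => p.filterMap fun z =>
    if x.1 = 0 ∧ x.1 < y.1 ∧ x.2 ≠ y.1 ∧ x.2 ≠ y.2 ∧ y.1 < z.1 ∧ x.2 ≠ z.1 ∧ x.2 ≠ z.2 ∧
      y.2 ≠ z.1 ∧ y.2 ≠ z.2 then some (swap x.1 x.2 * swap y.1 y.2 * swap z.1 z.2) else none)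

theorem mem_invList6 : ∀ x : Perm (Fin 6), x * x = 1 → x ≠ 1 → x ∈ invList6 := by
  decide +kernel

theorem invList6_class : ∀ x ∈ invList6, ∃ j : Fin 3, x.cycleType = (rep6 j).cycleType := by
  decide +kernel

set_option synthInstance.maxSize 20000 in
set_option synthInstance.maxHeartbeats 800000 in
set_option maxHeartbeats 2000000 in
theorem six_rep_table : ∀ j : Fin 3, ∀ b ∈ invList6, rep6 j * b * rep6 j = b * rep6 j * b →
    ∀ c ∈ invList6, c * rep6 j = rep6 j * c → c * b * c = b * c * b →
    ∀ d ∈ invList6, d * rep6 j = rep6 j * d → d * b = b * d → d * c * d = c * d * c →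
    ∀ t ∈ invList6, t ≠ d → t * rep6 j = rep6 j * t → t * b = b * t → d * t * d = t * d * t →
    c * t = t * c ∨ c * (d * t * d) = d * t * d * c := by
  decide +kernel

end CfsgLib.SymEight40
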