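import Cfsg.Agent.SymEight40.Basic
import Cfsg.Agent.S3333

/-!
The centraliser of `u`: it normalises `D` or is a double cover of the symmetric group of degree six.
-/

set_option autoImplicit false

open Equiv Subgroup

namespace CfsgLib.SymEight40

theorem cM_split : ∀ p, cM p = dM p.1 p.2.1 ∨ cM p = dM p.1 p.2.1 * (1, u5) := by decide +kernel

namespace Config

variable {G : Type*} [Group G] [Finite G] (C : Config G)

/-- The centraliser of `u` normalises `D` or covers `Perm (Fin 6)` with kernel `{1, u}`. -/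
theorem centU_cases : (∀ g, Commute g C.u → g ∈ normalizer (C.D : Set G)) ∨
    ∃ π : centralizer ({C.u} : Set G) →* Perm (Fin 6), Function.Surjective π ∧
      ∀ g, π g = 1 ↔ (g : G) = 1 ∨ (g : G) = C.u := by
  classical
  set L := centralizer ({C.u} : Set G) with hL
  have hmem : ∀ g, g ∈ L ↔ Commute g C.u := fun g => mem_centralizer_singleton_iff
  set Z := (zpowers C.u).subgroupOf L with hZdef
  have hz2 : ∀ x, x ∈ zpowers C.u → x = 1 ∨ x = C.u := by
    intro x h
    obtain ⟨i, rfl⟩ := mem_zpowers_iff.mp h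
    rcases Int.even_or_odd i with ⟨j, rfl⟩ | ⟨j, rfl⟩
    · left; rw [← two_mul, zpow_mul, zpow_two, C.u_sq, one_zpow]
    · right; rw [zpow_add, zpow_mul, zpow_two, C.u_sq, one_zpow, one_mul, zpow_one]
  haveI hZn : Z.Normal := ⟨fun v hv g => by
    rw [hZdef, mem_subgroupOf] at hv ⊢
    have : Commute (g : G) (v : G) := by
      rcases hz2 _ hv with h | h <;> rw [h]
      · exact Commute.one_right _
      · exact (hmem _).mp g.2
    simpa [conj_eq_of_commute this] using hv⟩
  set π := QuotientGroup.mk' Z with hπdef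
  have hπ : ∀ g : L, π g = 1 ↔ (g : G) = 1 ∨ (g : G) = C.u := by
    intro g
    rw [hπdef, QuotientGroup.mk'_apply, QuotientGroup.eq_one_iff, hZdef, mem_subgroupOf]
    refine ⟨hz2 _, ?_⟩
    rintro (h | h) <;> rw [h]
    exacts [one_mem _, mem_zpowers _]
  have hDL : C.D ≤ L := fun x hx => (hmem x).mpr (C.D_comm_u hx)
  have hNL : normalizer (C.D : Set G) ≤ L := fun x hx => (hmem x).mpr (C.norm_D_u hx)
  have hlift : ∀ g d d' : L, (d : G) ∈ C.D → (d' : G) ∈ C.D →
      π g * π d * (π g)⁻¹ = π d' → (g : G) * d * (g : G)⁻¹ = d' := by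
    intro g d d' hd hd' h
    rw [← map_inv, ← map_mul, ← map_mul, ← mul_inv_eq_one, ← map_inv, ← map_mul, hπ] at h
    simp only [Subgroup.coe_mul, Subgroup.coe_inv] at h
    rcases h with h | h
    · exact mul_inv_eq_one.mp h
    · exfalso
      have h' : (g : G) * d * (g : G)⁻¹ = C.u * d' := eq_mul_of_mul_inv_eq h
      have hc : Commute C.u (d' : G) := (C.D_comm_u hd').symm
      have h3 : (g : G) * d * (g : G)⁻¹ * ((g : G) * d * (g : G)⁻¹) * ((g : G) * d * (g : G)⁻¹) = 1 := by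
        calc _ = (g : G) * ((d : G) * d * d) * (g : G)⁻¹ := by group
          _ = 1 := by rw [C.D_cube hd]; group
      rw [h', show C.u * (d' : G) * (C.u * d') * (C.u * d') =
        C.u * ((d' : G) * C.u) * d' * C.u * d' by group, ← hc.eq,
        show C.u * (C.u * (d' : G)) * d' * C.u * d' = (C.u * C.u) * ((d' : G) * d') * C.u * d' by group,
        C.u_sq, one_mul, mul_assoc ((d' : G) * d'), hc.eq, ← mul_assoc, C.D_cube hd', one_mul] at h3
      exact C.u_ne h3
  have hlift' : ∀ g d : L, (d : G) ∈ C.D → π g * π d = π d * π g → Commute (g : G) d := by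
    intro g d hd h
    exact commute_of_conj_eq (hlift g d d hd hd (mul_inv_eq_iff_eq_mul.mpr h))
  set S := (C.D.subgroupOf L).map π with hSdef
  have hSmem : ∀ d : L, (d : G) ∈ C.D → π d ∈ S := fun d hd => ⟨d, mem_subgroupOf.mpr hd, rfl⟩
  have hcM : ∀ (g : L) (p), (g : G) = C.ι (cM p) → π g ∈ S := by
    intro g p hp
    rcases cM_split p with e | e <;> rw [e] at hp
    · exact hSmem g (hp ▸ C.dM_mem_D _ _)
    · have hd := hDL (C.dM_mem_D p.1 p.2.1)
      have : π g = π ⟨_, hd⟩ := by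
        have h : g = ⟨_, hd⟩ * (⟨C.u, (hmem _).mpr (Commute.refl _)⟩ : L) := by
          refine Subtype.ext ?_
          rw [hp, map_mul]; rfl
        rw [h, map_mul, (hπ ⟨C.u, _⟩).mpr (Or.inr rfl), mul_one]
      rw [this]
      exact hSmem _ (C.dM_mem_D _ _)
  have hScard : Nat.card S = 9 := by
    let f : C.D → S := fun d => ⟨π ⟨d, hDL d.2⟩, hSmem _ d.2⟩
    have hf : Function.Bijective f := by
      refine ⟨fun a b h => ?_, fun x => ?_⟩
      · have h' : π ⟨a, hDL a.2⟩ = π ⟨b, hDL b.2⟩ := congrArg (fun v : S => (v : L ⧸ Z)) h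
        refine Subtype.ext ?_
        have := hlift 1 ⟨a, hDL a.2⟩ ⟨b, hDL b.2⟩ a.2 b.2 (by rw [map_one, one_mul, inv_one,
          mul_one, h'])
        simpa using this
      · obtain ⟨x, d, hd, rfl⟩ := x
        exact ⟨⟨d, mem_subgroupOf.mp hd⟩, rfl⟩
    rw [← Nat.card_eq_of_bijective f hf, C.card_D]
  obtain ⟨P, hP⟩ := (IsPGroup.of_card (n := 2) (by rw [hScard]; rfl) : IsPGroup 3 S).exists_le_sylow
  have hSP : S = (P : Subgroup (L ⧸ Z)) := by
    refine Subgroup.eq_of_le_of_card_ge hP ?_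
    have : Fact (Nat.Prime 3) := ⟨Nat.prime_three⟩
    obtain ⟨k, hk⟩ := P.2.exists_card_eq
    have hk2 : k ≤ 2 := by
      by_contra hlt
      refine C.not27 ?_
      have h1 : 3 ^ k ∣ Nat.card (L ⧸ Z) := hk ▸ Subgroup.card_subgroup_dvd_card _
      exact ((pow_dvd_pow 3 (by omega : 3 ≤ k) : 3 ^ 3 ∣ 3 ^ k).trans h1).trans
        ((Subgroup.card_quotient_dvd_card Z).trans (Subgroup.card_subgroup_dvd_card L))
    rw [hk, hScard]
    exact (Nat.pow_le_pow_right (by norm_num) hk2 : 3 ^ k ≤ 3 ^ 2)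
  have hCS : centralizer (S : Set (L ⧸ Z)) = S := by
    refine le_antisymm (fun q hq => ?_) ?_
    · obtain ⟨g, rfl⟩ := QuotientGroup.mk'_surjective Z q
      rw [mem_centralizer_iff] at hq
      have hc : ∀ i j, Commute (g : G) (C.ι (dM i j)) := fun i j =>
        hlift' g ⟨_, hDL (C.dM_mem_D i j)⟩ (C.dM_mem_D i j) (hq _ (hSmem _ (C.dM_mem_D i j))).symm
      obtain ⟨p, hp⟩ := C.cent_D g (hc 1 0) (hc 0 1)
      exact hcM g p hp
    · rintro _ ⟨d, hd, rfl⟩
      rw [mem_centralizer_iff]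
      rintro _ ⟨d', hd', rfl⟩
      rw [← map_mul, ← map_mul]
      exact congrArg π (Subtype.ext (C.D_comm (mem_subgroupOf.mp hd') (mem_subgroupOf.mp hd)).eq)
  have hNS : ∀ g : L, π g ∈ normalizer (S : Set (L ⧸ Z)) ↔ (g : G) ∈ normalizer (C.D : Set G) := by
    intro g
    constructor
    · intro hg
      refine mem_normalizer_iff.mpr fun x => ?_
      have key : ∀ g : L, π g ∈ normalizer (S : Set (L ⧸ Z)) → ∀ x ∈ C.D,
          (g : G) * x * (g : G)⁻¹ ∈ C.D := by
        intro g hg x hx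
        obtain ⟨d, hd, hde⟩ := (mem_normalizer_iff.mp hg _).mp (hSmem ⟨x, hDL hx⟩ hx)
        rw [hlift g ⟨x, hDL hx⟩ d hx (mem_subgroupOf.mp hd) hde.symm]
        exact mem_subgroupOf.mp hd
      refine ⟨key g hg x, fun hx => ?_⟩
      have := key g⁻¹ (by rw [map_inv]; exact inv_mem hg) _ hx
      simpa [mul_assoc] using this
    · intro hg
      have key : ∀ g : L, (g : G) ∈ normalizer (C.D : Set G) → ∀ q ∈ S, π g * q * (π g)⁻¹ ∈ S := by
        rintro g hg _ ⟨d, hd, rfl⟩
        rw [← map_inv, ← map_mul, ← map_mul]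
        refine hSmem _ ?_
        simpa using (mem_normalizer_iff.mp hg _).mp (mem_subgroupOf.mp hd)
      refine mem_normalizer_iff.mpr fun q => ⟨key g hg q, fun hq => ?_⟩
      have := key g⁻¹ (inv_mem hg) _ hq
      rw [map_inv] at this
      simpa [mul_assoc] using this
  let φ : normalizer (C.D : Set G) →* normalizer (S : Set (L ⧸ Z)) :=
    (π.comp (Subgroup.inclusion hNL)).codRestrict _ fun x => (hNS _).mpr x.2
  let Φ := (QuotientGroup.mk' (S.subgroupOf (normalizer (S : Set (L ⧸ Z))))).comp φ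
  have hΦ : Function.Surjective Φ := by
    refine (QuotientGroup.mk'_surjective _).comp ?_
    rintro ⟨q, hq⟩
    obtain ⟨g, rfl⟩ := QuotientGroup.mk'_surjective Z q
    exact ⟨⟨g, (hNS g).mp hq⟩, rfl⟩
  have hker : Φ.ker = C.ψ.ker := by
    ext x
    rw [MonoidHom.mem_ker, MonoidHom.mem_ker, C.ψ_ker]
    change QuotientGroup.mk' (S.subgroupOf (normalizer (S : Set (L ⧸ Z)))) (φ x) = 1 ↔ _
    rw [QuotientGroup.mk'_apply, QuotientGroup.eq_one_iff, mem_subgroupOf]
    change π ⟨x, hNL x.2⟩ ∈ S ↔ _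
    constructor
    · intro hx
      rw [mem_centralizer_iff]
      intro d hd
      have hx' : π ⟨x, hNL x.2⟩ ∈ centralizer (S : Set (L ⧸ Z)) := hCS.symm ▸ hx
      exact (hlift' ⟨x, hNL x.2⟩ ⟨d, hDL hd⟩ hd
        (mem_centralizer_iff.mp hx' _ (hSmem _ hd)).symm).eq.symm
    · intro hx
      rw [mem_centralizer_iff] at hx
      obtain ⟨p, hp⟩ := C.cent_D (x : G) (hx _ (C.dM_mem_D 1 0)).symm (hx _ (C.dM_mem_D 0 1)).symm
      exact hcM _ p hp
  let eN := ((QuotientGroup.quotientKerEquivOfSurjective Φ hΦ).symm.trans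
    (QuotientGroup.quotientMulEquivOfEq hker)).trans
      (QuotientGroup.quotientKerEquivOfSurjective C.ψ C.ψ_surj)
  have hcent : ∀ x ∈ S, x ≠ 1 →
      centralizer ({x} : Set (L ⧸ Z)) ≤ normalizer (S : Set (L ⧸ Z)) := by
    rintro _ ⟨d, hd, rfl⟩ hd1 q hq
    obtain ⟨g, rfl⟩ := QuotientGroup.mk'_surjective Z q
    have hgd := hlift' g d (mem_subgroupOf.mp hd) (mem_centralizer_singleton_iff.mp hq)
    have hd' : (d : G) ≠ 1 := fun e => hd1 ((hπ d).mpr (Or.inl e))
    obtain ⟨v, hv, h⟩ := C.D_cases (mem_subgroupOf.mp hd) hd'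
    have hc := commute_conj hgd v
    have hu : Commute (v * (g : G) * v⁻¹) C.u :=
      ((C.norm_D_u hv).mul_left ((hmem _).mp g.2)).mul_left (C.norm_D_u hv).inv_left
    have hg : v * (g : G) * v⁻¹ ∈ normalizer (C.D : Set G) := by
      rcases h with h | h <;> rw [h] at hc
      · exact C.cent_z_u hc hu
      · exact C.y_cent_norm hc
    refine (hNS g).mpr ?_
    simpa [mul_assoc] using mul_mem (mul_mem (inv_mem hv) hg) hv
  rcases Cfsg.Agent.S3333.result P S hSP hScard hCS eN hcent with hn | ⟨⟨e⟩⟩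
  · left
    intro g hg
    refine (hNS ⟨g, (hmem g).mpr hg⟩).mp ?_
    rw [Subgroup.normalizer_eq_top_iff.mpr hn]
    exact mem_top _
  · right
    refine ⟨e.toMonoidHom.comp π, e.surjective.comp (QuotientGroup.mk'_surjective Z), fun g => ?_⟩
    rw [MonoidHom.comp_apply, MulEquiv.coe_toMonoidHom, MulEquiv.map_eq_one_iff, hπ]

end Config

end CfsgLib.SymEight40
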