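import Cfsg.Agent.ZStar.Theorem
import Cfsg.Agent.Involutions.Isolated
import Cfsg.Agent.Eq.Def_Solvable
import Cfsg.Agent.Eq.Def_IsolatedElements
import Cfsg.Agent.Transfer.NormalPComplement

/-!
General lemmas for the three-local recognition of the symmetric group of degree eight.

* `exists_core`: the form of the Z*-theorem used: an element isolated modulo a central involution.
* `inverted_of_fixfree`: an involution without fixed points inverts an odd order subgroup.
* `top_of_two_classes`: a subgroup controlling two classes of involutions is the whole group.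
-/

set_option autoImplicit false

namespace CfsgLib.SymEight40

variable {G : Type*} [Group G]

theorem inv_of_sq {x : G} (h : x * x = 1) : x⁻¹ = x := inv_eq_of_mul_eq_one_right h

theorem conj_sq {x : G} (h : x * x = 1) (g : G) : g * x * g⁻¹ * (g * x * g⁻¹) = 1 := by
  rw [show g * x * g⁻¹ * (g * x * g⁻¹) = g * (x * x) * g⁻¹ by group, h, mul_one, mul_inv_cancel]

theorem commute_conj {a b : G} (h : Commute a b) (g : G) :
    Commute (g * a * g⁻¹) (g * b * g⁻¹) := (Commute.conj_iff g).mpr h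

theorem conj_eq_of_commute {a b : G} (h : Commute a b) : a * b * a⁻¹ = b := by
  rw [h.eq, mul_inv_cancel_right]

theorem commute_of_conj_eq {a b : G} (h : a * b * a⁻¹ = b) : Commute a b :=
  mul_inv_eq_iff_eq_mul.mp h

/-- An involution with no non-trivial fixed point inverts a subgroup of finite order. -/
theorem inverted_of_fixfree [Finite G] (W : Subgroup G) {t : G} (ht : t * t = 1)
    (hn : ∀ x ∈ W, t * x * t ∈ W) (hfix : ∀ x ∈ W, Commute t x → x = 1) :
    ∀ x ∈ W, t * x * t = x⁻¹ := by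
  let f : W → W := fun x => ⟨(x : G)⁻¹ * (t * x * t), mul_mem (inv_mem x.2) (hn x x.2)⟩
  have hinj : Function.Injective f := by
    intro a b hab
    have h1 : (a : G)⁻¹ * (t * a * t) = (b : G)⁻¹ * (t * b * t) := congrArg Subtype.val hab
    have h2 : (b : G) * (a : G)⁻¹ = t * ((b : G) * (a : G)⁻¹) * t := by
      calc (b : G) * (a : G)⁻¹ = (b : G) * ((a : G)⁻¹ * (t * a * t)) * (t * a * t)⁻¹ := by group
        _ = (b : G) * ((b : G)⁻¹ * (t * b * t)) * (t * a * t)⁻¹ := by rw [h1]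
        _ = t * b * t * (t⁻¹ * (a : G)⁻¹ * t⁻¹) := by group
        _ = _ := by rw [inv_of_sq ht]; simp [mul_assoc, mul_eq_one_iff_eq_inv, ← mul_assoc t t, ht]
    have h3 : Commute t ((b : G) * (a : G)⁻¹) := by
      refine (commute_of_conj_eq ?_)
      rw [inv_of_sq ht, ← h2]
    exact (Subtype.ext (mul_inv_eq_one.mp (hfix _ (mul_mem b.2 (inv_mem a.2)) h3))).symm
  intro y hy
  obtain ⟨x, hx⟩ := (Finite.injective_iff_surjective.mp hinj) ⟨y, hy⟩
  have h1 : (x : G)⁻¹ * (t * x * t) = y := congrArg Subtype.val hx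
  rw [← h1, mul_inv_rev, mul_inv_rev, mul_inv_rev, inv_inv, inv_of_sq ht]
  calc t * ((x : G)⁻¹ * (t * x * t)) * t = t * (x : G)⁻¹ * t * x * (t * t) := by group
    _ = _ := by rw [ht, mul_one]; simp [mul_assoc]

theorem commute_mul_of_inverted {W : Subgroup G} {s t : G} (hs : s * s = 1) (ht : t * t = 1)
    (h1 : ∀ x ∈ W, s * x * s = x⁻¹) (h2 : ∀ x ∈ W, t * x * t = x⁻¹) :
    ∀ x ∈ W, Commute (s * t) x := by
  intro x hx
  refine commute_of_conj_eq ?_
  rw [mul_inv_rev, inv_of_sq hs, inv_of_sq ht,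
    show s * t * x * (t * s) = s * (t * x * t) * s by group, h2 x hx, h1 _ (inv_mem hx), inv_inv]

theorem eq_one_of_sq_odd [Finite G] {W : Subgroup G} (hW : Odd (Nat.card W)) {x : G} (hx : x ∈ W)
    (h2 : x * x = 1) : x = 1 := by
  have hd : orderOf x ∣ 2 := orderOf_dvd_of_pow_eq_one (by rw [pow_two, h2])
  have hd' : orderOf x ∣ Nat.card W := Subgroup.orderOf_dvd_natCard _ hx
  have h := Nat.dvd_gcd hd hd'
  rw [(Nat.coprime_two_left.mpr hW).gcd_eq_one] at h
  exact orderOf_eq_one_iff.mp (Nat.dvd_one.mp h)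

/-- An inverted subgroup of odd order centralised by the inverting involution is trivial. -/
theorem eq_one_of_inverted_fixed [Finite G] {W : Subgroup G} (hW : Odd (Nat.card W)) {t : G}
    (ht : t * t = 1) (h : ∀ x ∈ W, t * x * t = x⁻¹) (hc : ∀ x ∈ W, Commute t x) :
    ∀ x ∈ W, x = 1 := by
  intro x hx
  refine eq_one_of_sq_odd hW hx ?_
  have h1 := h x hx
  rw [(hc x hx).eq, mul_assoc, ht, mul_one] at h1
  calc x * x = x * x⁻¹ := by rw [← h1]
    _ = 1 := mul_inv_cancel x

/-- An element isolated modulo a central element `v` with `v * v = 1` is central modulo the odd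
core up to the factor `v`. -/
theorem exists_core [Finite G] (t v : G) (ht : t * t = 1) (hv : v * v = 1)
    (hvc : ∀ g, Commute g v) (htv : t ≠ v) (ht1 : t ≠ 1)
    (hiso : ∀ g, (g * t * g⁻¹ * t * (g * t * g⁻¹) * t = 1 ∨
      g * t * g⁻¹ * t * (g * t * g⁻¹) * t = v) → g * t * g⁻¹ = t ∨ g * t * g⁻¹ = t * v) :
    ∃ W : Subgroup G, W.Normal ∧ Odd (Nat.card W) ∧
      ∀ g, ∃ x ∈ W, x * g * t * (x * g)⁻¹ = t ∨ x * g * t * (x * g)⁻¹ = t * v := by
  classical
  have : Fact (Nat.Prime 2) := ⟨Nat.prime_two⟩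
  set Z := Subgroup.zpowers v
  have hZ : ∀ x, x ∈ Z ↔ x = 1 ∨ x = v := by
    intro x
    refine ⟨fun h => ?_, ?_⟩
    · obtain ⟨i, rfl⟩ := Subgroup.mem_zpowers_iff.mp h
      rcases Int.even_or_odd i with ⟨j, rfl⟩ | ⟨j, rfl⟩
      · left
        rw [← two_mul, zpow_mul, zpow_two, hv, one_zpow]
      · right
        rw [zpow_add, zpow_mul, zpow_two, hv, one_zpow, one_mul, zpow_one]
    · rintro (rfl | rfl)
      exacts [one_mem _, Subgroup.mem_zpowers _]
  haveI hZn : Z.Normal := ⟨fun n hn g => by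
    rcases (hZ n).mp hn with rfl | rfl
    · simp [one_mem]
    · rw [conj_eq_of_commute (hvc g)]; exact hn⟩
  set π := QuotientGroup.mk' Z
  have hπ : ∀ x, π x = 1 ↔ x = 1 ∨ x = v := fun x => (QuotientGroup.eq_one_iff x).trans (hZ x)
  have hord : orderOf (π t) = 2 := by
    refine orderOf_eq_prime (by rw [pow_two, ← map_mul, ht, map_one]) fun e => ?_
    rcases (hπ t).mp e with e | e
    exacts [ht1 e, htv e]
  have hisoQ : Cfsg.IsIsolated (π t) := by
    intro q hq
    obtain ⟨g, rfl⟩ := QuotientGroup.mk'_surjective Z q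
    have e : π (g * t * g⁻¹ * t * (g * t * g⁻¹) * t) = 1 := by
      have hq' : π g * π t * (π g)⁻¹ * π t = π t * (π g * π t * (π g)⁻¹) := hq.eq.symm
      simp only [map_mul, map_inv]
      rw [hq', show π t * (π g * π t * (π g)⁻¹) * (π g * π t * (π g)⁻¹) * π t =
        π t * (π g * (π t * π t) * (π g)⁻¹) * π t by group, ← map_mul π t t, ht, map_one, mul_one,
        mul_inv_cancel, mul_one, ← map_mul, ht, map_one]
    rcases hiso g ((hπ _).mp e) with h | h
    · have h' := congrArg π h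
      rw [map_mul, map_mul, map_inv] at h'
      exact h'
    · have h' := congrArg π h
      rw [map_mul, map_mul, map_mul, map_inv, (hπ v).mpr (Or.inr rfl), mul_one] at h'
      exact h'
  have hmem := ZStar.inZStar_of_isolated hord hisoQ
  set K := (Cfsg.pPrimeCore 2 (G ⧸ Z)).comap π
  haveI hKn : K.Normal := Subgroup.Normal.comap inferInstance _
  obtain ⟨T⟩ : Nonempty (Sylow 2 K) := inferInstance
  have hTc : ∀ a ∈ (T : Subgroup K), (a : G) = 1 ∨ (a : G) = v := by
    intro a ha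
    obtain ⟨k, hk⟩ := IsPGroup.iff_orderOf.mp T.2 ⟨a, ha⟩
    rw [Subgroup.orderOf_mk] at hk
    refine (hπ _).mp ?_
    have h1 : orderOf (π (a : G)) ∣ 2 ^ k := (orderOf_map_dvd _ _).trans (by
      rw [Subgroup.orderOf_coe, hk])
    have h2 : orderOf (π (a : G)) ∣ Nat.card (Cfsg.pPrimeCore 2 (G ⧸ Z)) :=
      Subgroup.orderOf_dvd_natCard _ a.2
    exact orderOf_eq_one_iff.mp (Nat.dvd_one.mp
      (((Constrained.pPrimeCore_coprime (G := G ⧸ Z) (p := 2)).symm.pow_left k).gcd_eq_one ▸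
        Nat.dvd_gcd h1 h2))
  obtain ⟨M, hMn, hM⟩ := Transfer.exists_isComplement'
    (Transfer.hasNormalPComplement_of_normalizer_le_centralizer T fun a _ => by
      rw [Subgroup.mem_centralizer_iff]
      intro b hb
      rcases hTc b hb with e | e
      · have : b = 1 := Subtype.ext e
        rw [this, one_mul, mul_one]
      · exact Subtype.ext (by rw [Subgroup.coe_mul, Subgroup.coe_mul, e, (hvc _).eq])) T
  have hM2 : ¬ 2 ∣ Nat.card M := hM.index_eq_card ▸ T.not_dvd_index
  set W := Cfsg.pPrimeCore 2 G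
  have hWodd : Odd (Nat.card W) := by
    rw [← Nat.coprime_two_left]
    exact (Constrained.pPrimeCore_coprime (G := G) (p := 2)).symm
  haveI : W.Normal := inferInstance
  refine ⟨W, inferInstance, hWodd, fun g => ?_⟩
  -- the commutator with `t` lies in `W` up to `v`
  have hgK : g * t * g⁻¹ * t⁻¹ ∈ K := by
    have := hmem (π g)
    rwa [← map_inv, ← map_inv, ← map_mul, ← map_mul, ← map_mul] at this
  obtain ⟨⟨⟨m, hm⟩, ⟨b, hb⟩⟩, hmb⟩ := hM.2 (⟨_, hgK⟩ : K)
  have hmW : (m : G) ∈ W := Constrained.map_pPrimeCore_subgroup_le (p := 2) K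
    ⟨m, Constrained.le_pPrimeCore_of_not_dvd hMn hM2 hm, rfl⟩
  have hmb' : (m : G) * (b : G) = g * t * g⁻¹ * t⁻¹ := congrArg Subtype.val hmb
  obtain ⟨c, hc, hct⟩ : ∃ c, (c = 1 ∨ c = v) ∧ g * t * g⁻¹ = (m : G) * (c * t) := by
    refine ⟨b, hTc b hb, ?_⟩
    rw [← mul_assoc, hmb', inv_mul_cancel_right]
  have hct2 : c * t * (c * t) = 1 := by
    rcases hc with hc' | hc' <;> rw [hc']
    · rw [one_mul]; exact ht
    · rw [(hvc t).symm.eq, show t * v * (t * v) = t * (v * t) * v by group, (hvc t).symm.eq,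
        show t * (t * v) * v = (t * t) * (v * v) by group, ht, hv, one_mul]
  have hodd : Odd (orderOf (c * t * (g * t * g⁻¹))) := by
    have hmem' : c * t * (g * t * g⁻¹) ∈ W := by
      rw [hct, ← mul_assoc]
      have := Subgroup.Normal.conj_mem (inferInstance : W.Normal) _ hmW (c * t)
      rwa [inv_of_sq hct2] at this
    exact hWodd.of_dvd_nat (Subgroup.orderOf_dvd_natCard _ hmem')
  obtain ⟨x, hx, hxt⟩ := OddProducts.exists_conj_of_odd hct2 (conj_sq ht g) hodd
  have hxW : x ∈ W := by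
    refine (Subgroup.zpowers_le.mpr ?_) hx
    rw [hct, ← mul_assoc]
    have := Subgroup.Normal.conj_mem (inferInstance : W.Normal) _ hmW (c * t)
    rwa [inv_of_sq hct2] at this
  refine ⟨x, hxW, ?_⟩
  rw [show x * g * t * (x * g)⁻¹ = x * (g * t * g⁻¹) * x⁻¹ by group, hxt]
  rcases hc with hc' | hc'
  · left; rw [hc', one_mul]
  · right; rw [hc']; exact (hvc t).symm.eq

/-- A subgroup controlling two classes of involutions is the whole group. -/
theorem top_of_two_classes [Finite G] (H : Subgroup G) (u v : G) (hu : u * u = 1) (hv : v * v = 1)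
    (hne : ∀ g, g * u * g⁻¹ ≠ v) (hv1 : v ≠ 1)
    (hCu : ∀ g, Commute g u → g ∈ H) (hCv : ∀ g, Commute g v → g ∈ H)
    (hctrl : ∀ g, g * v * g⁻¹ ∈ H → ∃ h ∈ H, h * v * h⁻¹ = g * v * g⁻¹)
    (hw : ∀ w, Commute w u → w * w = 1 → w ≠ 1 →
      ((∃ g, g * u * g⁻¹ = u * w) ∨ (∃ g, g * v * g⁻¹ = u * w)) →
      ∀ g, Commute g w → g ∈ H) : H = ⊤ := by
  refine eq_top_iff.mpr fun g _ => ?_
  set d := g * v * g⁻¹ with hd
  have hd2 : d * d = 1 := conj_sq hv g
  set c := u * d with hcd
  rcases Nat.even_or_odd (orderOf c) with ⟨m, hm⟩ | hodd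
  · have hpos := orderOf_pos c
    set w := c ^ m with hwdef
    have hw2 : w * w = 1 := by rw [hwdef, ← pow_add, ← hm, pow_orderOf_eq_one]
    have hw1 : w ≠ 1 := fun e => by
      have := Nat.le_of_dvd (by omega) (orderOf_dvd_of_pow_eq_one e)
      omega
    have hci : u * c * u⁻¹ = c⁻¹ := Isolated.conj_mul_eq_inv hu hd2
    have hswap : ∀ j : ℕ, (c ^ j)⁻¹ * u = u * c ^ j := fun j => by
      rw [← Isolated.conj_pow_eq_inv hci j]; group
    have hwu : Commute w u := by
      have := hswap m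
      rwa [← hwdef, inv_of_sq hw2] at this
    have hwd : Commute d w := by
      have hd' : d = u * c := by rw [hcd, ← mul_assoc, hu, one_mul]
      rw [hd']
      exact hwu.symm.mul_left ((Commute.refl c).pow_right m)
    have hwH : ∀ x, Commute x w → x ∈ H := by
      refine hw w hwu hw2 hw1 ?_
      rcases Nat.even_or_odd m with ⟨j, hj⟩ | ⟨j, hj⟩
      · left
        exact ⟨(c ^ j)⁻¹, by rw [inv_inv, hswap, hwdef, hj, pow_add, mul_assoc]⟩
      · right
        refine ⟨(c ^ j)⁻¹ * g, ?_⟩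
        calc (c ^ j)⁻¹ * g * v * ((c ^ j)⁻¹ * g)⁻¹ = (c ^ j)⁻¹ * d * c ^ j := by rw [hd]; group
          _ = (c ^ j)⁻¹ * (u * c) * c ^ j := by rw [hcd, ← mul_assoc u u d, hu, one_mul]
          _ = u * c ^ j * c * c ^ j := by rw [← mul_assoc, hswap]
          _ = u * w := by
            rw [hwdef, hj, two_mul, add_right_comm, pow_add, pow_succ]; simp [mul_assoc]
    obtain ⟨h, hh, hhe⟩ := hctrl g (hwH d hwd)
    have hc1 : Commute (h⁻¹ * g) v := commute_of_conj_eq (by
      calc h⁻¹ * g * v * (h⁻¹ * g)⁻¹ = h⁻¹ * (g * v * g⁻¹) * h := by group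
        _ = h⁻¹ * (h * v * h⁻¹) * h := by rw [hhe]
        _ = v := by group)
    simpa [mul_assoc] using mul_mem hh (hCv _ hc1)
  · obtain ⟨x, -, hx⟩ := OddProducts.exists_conj_of_odd hu hd2 hodd
    exact absurd (by rw [← hx, hd]; group : (x * g)⁻¹ * u * ((x * g)⁻¹)⁻¹ = v) (hne _)

end CfsgLib.SymEight40
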