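import Cfsg.Agent.SymEight40.ProdBasic

/-!
The two alternating groups commute.
-/

set_option autoImplicit false

open Equiv Subgroup

namespace CfsgLib.SymEight40

theorem dM_r5 : ∀ i j : Fin 3, ((1, r5) : M) * dM i j = dM i j * (1, r5) → j = 0 := by
  decide +kernel

theorem odd_relation : (a5 * r5) ^ 2 = 1 ∧ (c5 * a5) ^ 5 = 1 := by decide +kernel

namespace Config

variable {G : Type*} [Group G] [Finite G] (C : Config G)

/-- The centraliser of `u` and `r` lies in the normaliser of `z`. -/
theorem cent_u_r (hII : C.r = C.kH r5) (hN : ∀ g, Commute g C.u → g ∈ normalizer (C.D : Set G))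
    {g : G} (hgu : Commute g C.u) (hgr : Commute g C.r) :
    ∃ a' : Perm (Fin 3), ∃ y : Perm (Fin 5), g = C.ι (a', y) ∧ y * u5 = u5 * y ∧ y * r5 = r5 * y := by
  obtain ⟨i, j, hij⟩ := (C.mem_D_iff _).mp
    ((mem_normalizer_iff.mp (hN g hgu) _).mp (C.dM_mem_D 1 0))
  have hr : Commute (C.ι (1, r5)) (C.ι (dM i j)) := by
    rw [← hij, ← C.kH_apply, ← hII]
    have := commute_conj (C.r_z hII) g
    rwa [conj_eq_of_commute hgr] at this
  obtain rfl : j = 0 := dM_r5 i j (C.inj (by rw [map_mul, map_mul]; exact hr.eq))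
  have hi : i ≠ 0 := by
    rintro rfl
    rw [dM_zero, map_one, conj_eq_one_iff] at hij
    exact absurd (C.inj (hij.trans C.ι.map_one.symm)) (by decide +kernel)
  obtain ⟨⟨a', y⟩, hg⟩ := C.norm_z g (by rcases fin3_cases i hi with rfl | rfl <;> simp [hij])
  refine ⟨a', y, hg.symm, ?_, ?_⟩
  · have h := C.inj (show C.ι ((a', y) * (1, u5)) = C.ι ((1, u5) * (a', y)) by
      rw [map_mul, map_mul, hg]; exact hgu.eq)
    simpa using congrArg Prod.snd h
  · have h := C.inj (show C.ι ((a', y) * (1, r5)) = C.ι ((1, r5) * (a', y)) by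
      rw [map_mul, map_mul, hg, ← C.kH_apply, ← hII]; exact hgr.eq)
    simpa using congrArg Prod.snd h

theorem cent_urs (hII : C.r = C.kH r5) (hN : ∀ g, Commute g C.u → g ∈ normalizer (C.D : Set G))
    {g : G} (hgu : Commute g C.u) (hgr : Commute g C.r) (hgs : Commute g C.s) :
    ∃ e f h : Bool, g = (if e then C.s else 1) * (if f then C.r else 1) * (if h then C.u else 1) := by
  obtain ⟨a', y, rfl, h1, h2⟩ := C.cent_u_r hII hN hgu hgr
  have ha : a' * swap 0 1 = swap 0 1 * a' := by
    have h := C.inj (show C.ι ((a', y) * (swap 0 1, 1)) = C.ι ((swap 0 1, 1) * (a', y)) by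
      rw [map_mul, map_mul]; exact hgs.eq)
    simpa using congrArg Prod.fst h
  obtain ⟨f, h, rfl⟩ := cent_u5_r5 y h1 h2
  have hr : (if f then C.r else 1) * (if h then C.u else 1) =
      C.kH ((if f then r5 else 1) * (if h then u5 else 1)) := by
    rw [map_mul]; cases f <;> cases h <;> simp [C.kH_r5 hII, C.kH_u5]
  rcases cent_swap3 a' ha with rfl | rfl
  · exact ⟨false, f, h, by simp only [Bool.false_eq_true, if_false, one_mul]; rw [hr, C.kH_apply]⟩
  · refine ⟨true, f, h, ?_⟩
    rw [if_pos rfl, mul_assoc, hr, C.kH_apply, ← map_mul]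
    simp

theorem s_r_ne (hII : C.r = C.kH r5) : C.s ≠ C.r := fun e =>
  absurd (C.inj (show C.ι (swap 0 1, 1) = C.ι (1, r5) by rw [← C.kH_apply, ← hII]; exact e))
    (by decide +kernel)

/-- The two exchanged involutions commute. -/
theorem b_a (hII : C.r = C.kH r5) (hN : ∀ g, Commute g C.u → g ∈ normalizer (C.D : Set G)) :
    Commute C.b C.a := by
  have hbr := C.b_r hII
  have har := C.a_r
  have has := C.a_s hII
  have hbs := C.b_s
  set f0 := C.a * C.b * C.a * C.b with hf0
  have conj2 : ∀ x t : G, x * x = 1 → Commute x t → x * t * x = t := fun x t hx h => by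
    rw [h.eq, mul_assoc, hx, mul_one]
  have hur : C.a * C.r * C.a = C.r := conj2 _ _ C.a_sq har
  have hf0u : Commute f0 C.u := by
    refine commute_of_conj_eq ?_
    rw [hf0, mul_inv_rev, mul_inv_rev, mul_inv_rev, inv_of_sq C.a_sq, inv_of_sq C.b_sq]
    calc C.a * C.b * C.a * C.b * C.u * (C.b * (C.a * (C.b * C.a)))
        = C.a * C.b * C.a * (C.b * C.u * C.b) * C.a * C.b * C.a := by group
      _ = C.a * C.b * ((C.a * C.r * C.a) * (C.a * C.u * C.a)) * C.b * C.a := by
        rw [C.b_u hII]; simp [mul_assoc, ← mul_assoc C.a C.a, C.a_sq]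
      _ = C.a * (C.b * C.r * C.b * (C.b * C.s * C.b) * (C.b * C.u * C.b)) * C.a := by
        rw [hur, C.a_u hII]; simp [mul_assoc, ← mul_assoc C.b C.b, C.b_sq]
      _ = C.a * (C.r * C.s * (C.r * C.u)) * C.a := by
        rw [conj2 _ _ C.b_sq hbr, conj2 _ _ C.b_sq hbs, C.b_u hII]
      _ = C.a * (C.s * C.u) * C.a := by
        rw [(C.r_s hII).eq, mul_assoc C.s, ← mul_assoc C.r C.r, C.r_sq, one_mul]
      _ = C.s * (C.a * C.u * C.a) := by rw [← mul_assoc C.a C.s, has.eq]; simp [mul_assoc]
      _ = C.s * (C.s * C.u) := by rw [C.a_u hII]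
      _ = C.u := by rw [← mul_assoc, C.s_sq, one_mul]
  have hf0r : Commute f0 C.r := ((har.mul_left hbr).mul_left har).mul_left hbr
  have hf0s : Commute f0 C.s := ((has.mul_left hbs).mul_left has).mul_left hbs
  obtain ⟨e, f, h, hefh⟩ := C.cent_urs hII hN hf0u hf0r hf0s
  have hsq : f0 * f0 = 1 := by
    have q : ∀ x y : G, x * x = 1 → y * y = 1 → Commute x y → x * y * (x * y) = 1 :=
      fun x y hx hy hxy => by
        rw [mul_assoc, ← mul_assoc y x, ← hxy.eq, mul_assoc x y y, hy, mul_one, hx]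
    rw [hefh]
    refine q _ _ (q _ _ ?_ ?_ ?_) ?_ ?_
    · cases e <;> simp [C.s_sq]
    · cases f <;> simp [C.r_sq]
    · cases e <;> cases f <;> simp [(C.r_s hII).symm]
    · cases h <;> simp [C.u_sq]
    · cases e <;> cases f <;> cases h <;> simp [C.s_u, C.r_u hII, C.s_u.mul_left (C.r_u hII)]
  have hsym : C.b * C.a * C.b * C.a = f0 := by
    rw [← inv_of_sq hsq, hf0, mul_inv_rev, mul_inv_rev, mul_inv_rev, inv_of_sq C.a_sq,
      inv_of_sq C.b_sq]
    group
  have haf : C.a * f0 * C.a = f0 := by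
    calc C.a * f0 * C.a = C.a * C.a * (C.b * C.a * C.b * C.a) := by rw [hf0]; group
      _ = _ := by rw [C.a_sq, one_mul, hsym]
  have hnf : C.n * f0 * C.n = f0 := by
    rw [hf0, C.n_hom, C.n_hom, C.n_hom, C.n_kH, C.n_fH]
    exact hsym
  have hns : C.n * C.s * C.n = C.r := rfl
  have hnr : C.n * C.r * C.n = C.s := C.n_conj C.s
  have hh : h = false := by
    cases h
    · rfl
    exfalso
    have key : C.a * C.u * C.a = C.u := by
      have : ∀ t : G, Commute C.a t → C.a * (t * C.u) * C.a = t * C.u → C.a * C.u * C.a = C.u := by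
        intro t ht h
        rw [← mul_assoc C.a, ht.eq, mul_assoc t, mul_assoc t, mul_right_inj] at h
        exact h
      refine this ((if e then C.s else 1) * (if f then C.r else 1)) ?_ (by simpa [hefh] using haf)
      rcases e <;> rcases f <;> simp [has, har, has.mul_right har]
    rw [C.a_u hII] at key
    exact absurd (mul_eq_right.mp key) (fun e' =>
      absurd (C.inj (e'.trans C.ι.map_one.symm)) (by decide +kernel))
  subst hh
  simp only [Bool.false_eq_true, if_false, mul_one] at hefh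
  rcases e <;> rcases f
  · simp only [if_neg Bool.false_ne_true, mul_one] at hefh
    refine commute_of_conj_eq ?_
    rw [inv_of_sq C.b_sq]
    calc C.b * C.a * C.b = C.a * (C.a * C.b * C.a * C.b) := by
          simp [← mul_assoc, C.a_sq]
      _ = C.a := by rw [← hf0, hefh, mul_one]
  · exfalso
    simp only [if_neg Bool.false_ne_true, one_mul, if_true] at hefh
    rw [hefh, hnr] at hnf
    exact C.s_r_ne hII hnf
  · exfalso
    simp only [if_neg Bool.false_ne_true, mul_one, if_true] at hefh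
    rw [hefh, hns] at hnf
    exact C.s_r_ne hII hnf.symm
  · exfalso
    simp only [if_true] at hefh
    -- conjugation by `b` would turn a relation of odd length into `r`
    have hb : C.b * C.fH (c5 * a5) * C.b = C.fH (c5 * a5 * r5) * C.r := by
      rw [map_mul, map_mul, map_mul, C.fH_c5, C.fH_r5 hII]
      calc C.b * (C.z * C.a) * C.b = C.b * C.z * C.b * (C.a * (C.a * C.b * C.a * C.b)) := by
            simp [mul_assoc, ← mul_assoc C.a C.a, C.a_sq, ← mul_assoc C.b C.b, C.b_sq]
        _ = C.z * C.a * C.s * C.r := by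
          rw [conj2 _ _ C.b_sq C.b_z, ← hf0, hefh]; group
    have h5 : (C.fH (c5 * a5 * r5) * C.r) ^ 5 = 1 := by
      rw [← hb, show C.b * C.fH (c5 * a5) * C.b = C.b * C.fH (c5 * a5) * C.b⁻¹ by
        rw [inv_of_sq C.b_sq], conj_pow, ← map_pow, odd_relation.2, map_one, mul_one, mul_inv_cancel]
    rw [((C.r_fH _).symm).mul_pow, ← map_pow,
      show C.r ^ 5 = C.r by simp [pow_succ, C.r_sq]] at h5
    refine C.fH_ne_r ((c5 * a5 * r5) ^ 5) ?_
    calc C.fH ((c5 * a5 * r5) ^ 5) = C.fH ((c5 * a5 * r5) ^ 5) * C.r * C.r := by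
          rw [mul_assoc (C.fH _) C.r C.r, C.r_sq, mul_one]
      _ = C.r := by rw [h5, one_mul]

/-- Even elements of the two complements commute. -/
theorem commute_AB (hII : C.r = C.kH r5) (hN : ∀ g, Commute g C.u → g ∈ normalizer (C.D : Set G))
    {x y : Perm (Fin 5)} (hx : Perm.sign x = 1) (hy : Perm.sign y = 1) :
    Commute (C.fH x) (C.kH y) := by
  have hba := C.b_a hII hN
  have gen : ∀ (t : G), Commute t C.z → Commute t C.s → Commute t C.a →
      ∀ x, Perm.sign x = 1 → Commute t (C.fH x) := by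
    intro t h1 h2 h3 x hx
    have hle : closure ({c5, r5, a5} : Set (Perm (Fin 5))) ≤
        (centralizer ({t} : Set G)).comap C.fH := by
      rw [closure_le]
      rintro v (rfl | rfl | rfl) <;> rw [SetLike.mem_coe, mem_comap, mem_centralizer_singleton_iff]
      · rw [C.fH_c5]; exact h1.eq.symm
      · rw [C.fH_r5 hII]; exact h2.eq.symm
      · exact h3.eq.symm
    rw [a5_gen] at hle
    have hm := hle (Equiv.Perm.mem_alternatingGroup.mpr hx)
    rw [mem_comap, mem_centralizer_singleton_iff] at hm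
    exact hm.symm
  have hle : closure ({c5, r5, a5} : Set (Perm (Fin 5))) ≤
      (centralizer ({C.fH x} : Set G)).comap C.kH := by
    rw [closure_le]
    rintro v (rfl | rfl | rfl) <;> rw [SetLike.mem_coe, mem_comap, mem_centralizer_singleton_iff]
    · rw [C.kH_c5]
      refine (gen C.w ?_ ?_ C.a_w.symm x hx).eq
      · exact (show Commute (dM 0 1) (dM 1 0) from by
          change dM 0 1 * dM 1 0 = dM 1 0 * dM 0 1
          rw [dM_mul, dM_mul]; rfl).map C.ι
      · rw [← C.kH_c5]; exact (C.kH_commute _ _).symm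
    · rw [C.kH_r5 hII]; exact ((C.r_fH x)).eq
    · exact (gen C.b C.b_z C.b_s hba x hx).eq
  rw [a5_gen] at hle
  have hm := hle (Equiv.Perm.mem_alternatingGroup.mpr hy)
  rw [mem_comap, mem_centralizer_singleton_iff] at hm
  exact (show Commute (C.kH y) (C.fH x) from hm).symm

end Config

end CfsgLib.SymEight40
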