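import Cfsg.Agent.SymEight40.SymCase
import Cfsg.Agent.SymEight40.FiveTables

/-!
Elementary consequences of the second type of configuration.
-/

set_option autoImplicit false

open Equiv Subgroup

namespace CfsgLib.SymEight40

theorem five_basic : r5 * p5 = u5 ∧ p5 * u5 = u5 * p5 ∧ a5 * u5 * a5 = p5 ∧ r5 * u5 = u5 * r5 := by
  decide +kernel

theorem three_basic : (swap 0 1 : Perm (Fin 3)) * c3 * swap 0 1 = c3⁻¹ ∧
    (dM 1 0 : M) = (c3, 1) ∧ (dM 0 1 : M) = (1, c5) := by decide +kernel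

namespace Config

variable {G : Type*} [Group G] (C : Config G)

theorem n_sq' (x : G) : C.n * (C.n * x) = x := by rw [← mul_assoc, C.n_sq, one_mul]

theorem n_hom (x y : G) : C.n * (x * y) * C.n = C.n * x * C.n * (C.n * y * C.n) := by
  simp only [mul_assoc, C.n_sq']

theorem n_kH (x : Perm (Fin 5)) : C.n * C.kH x * C.n = C.fH x := (C.fH_apply x).symm

theorem n_fH (x : Perm (Fin 5)) : C.n * C.fH x * C.n = C.kH x := by
  rw [C.fH_apply, C.n_conj]; rfl

theorem kH_c5 : C.kH c5 = C.w := by rw [C.kH_apply, ← three_basic.2.2]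

theorem kH_r5 (hII : C.r = C.kH r5) : C.kH r5 = C.r := hII.symm

theorem fH_r5 (hII : C.r = C.kH r5) : C.fH r5 = C.s := by
  rw [← C.n_kH, C.kH_r5 hII]; exact C.n_conj C.s

theorem r_u (hII : C.r = C.kH r5) : Commute C.r C.u := by
  rw [hII, ← C.kH_u5]
  exact (show Commute r5 u5 from five_basic.2.2.2).map C.kH

theorem r_z (hII : C.r = C.kH r5) : Commute C.r C.z := by
  rw [hII, C.kH_apply]
  exact (show Commute ((1, r5) : M) (dM 1 0) from Prod.ext (by simp [dM]) (by simp [dM])).map C.ι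

theorem r_s (hII : C.r = C.kH r5) : Commute C.r C.s := hII ▸ (C.kH_commute _ _).symm

theorem s_u : Commute C.s C.u := C.kH_commute (swap 0 1) u5

theorem kH_p5 (hII : C.r = C.kH r5) : C.kH p5 = C.r * C.u := by
  rw [hII, ← C.kH_u5, ← map_mul, a5_facts.2.2.2.2.2.2.2.1]

theorem fH_p5' (hII : C.r = C.kH r5) : C.fH p5 = C.s * C.u := by
  rw [← C.fH_r5 hII, ← C.fH_u5, ← map_mul, a5_facts.2.2.2.2.2.2.2.1]

/-- The element moving `u` to `r * u`. -/
abbrev b : G := C.kH a5
/-- The element moving `u` to `s * u`. -/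
abbrev a : G := C.fH a5

theorem b_sq : C.b * C.b = 1 := by rw [← map_mul, a5_facts.2.2.2.1, map_one]

theorem a_sq : C.a * C.a = 1 := by rw [← map_mul, a5_facts.2.2.2.1, map_one]

theorem b_u (hII : C.r = C.kH r5) : C.b * C.u * C.b = C.r * C.u := by
  rw [← C.kH_p5 hII, ← C.kH_u5, ← map_mul, ← map_mul, five_basic.2.2.1]

theorem a_u (hII : C.r = C.kH r5) : C.a * C.u * C.a = C.s * C.u := by
  rw [← C.fH_p5' hII, ← C.fH_u5, ← map_mul, ← map_mul, five_basic.2.2.1]

theorem b_r (hII : C.r = C.kH r5) : Commute C.b C.r := by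
  rw [hII]
  exact (show Commute a5 r5 from (show a5 * r5 = r5 * a5 by decide +kernel)).map C.kH

theorem b_s : Commute C.b C.s := (C.kH_commute _ _).symm

theorem b_z : Commute C.b C.z := by
  exact (show Commute ((1, a5) : M) (dM 1 0) from Prod.ext (by simp [dM]) (by simp [dM])).map C.ι

theorem a_r : Commute C.a C.r := (C.r_fH _).symm

theorem a_s (hII : C.r = C.kH r5) : Commute C.a C.s := by
  rw [← C.fH_r5 hII]
  exact (show Commute a5 r5 from (show a5 * r5 = r5 * a5 by decide +kernel)).map C.fH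

theorem a_w : Commute C.a C.w := by
  have h := commute_conj C.b_z C.n
  rw [C.n_inv] at h
  change Commute (C.fH a5) (C.ι (dM 0 1))
  rw [C.fH_apply, ← C.n_z]
  exact h

variable [Finite G]

theorem s_ne_conj_u (hII : C.r = C.kH r5) (g : G) : g * C.u * g⁻¹ ≠ C.s := by
  intro h
  refine C.conj_u_ne_kH (C.n * g) a5_facts.2.1 ?_
  rw [← hII, Config.r, ← h, mul_inv_rev, C.n_inv]; group

theorem r_ne_conj_u (hII : C.r = C.kH r5) (g : G) : g * C.u * g⁻¹ ≠ C.r := by
  rw [hII]; exact C.conj_u_ne_kH g a5_facts.2.1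

end Config

end CfsgLib.SymEight40
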