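import Cfsg.Agent.SymEight40.ProdAB

/-!
The subgroup `(A₅ × A₅).2²` inside a configuration of the second type, described by pairs.
-/

set_option autoImplicit false

open Equiv Subgroup

namespace CfsgLib.SymEight40

theorem three_split : ∀ a : Perm (Fin 3), ∃ i : Fin 3, a = c3 ^ i.1 ∨ a = c3 ^ i.1 * swap 0 1 := by
  decide +kernel

namespace Config

variable {G : Type*} [Group G]

/-- The hypotheses of the second case. -/
structure ProdHyp (C : Config G) : Prop where
  hII : C.r = C.kH r5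
  hN : ∀ g, Commute g C.u → g ∈ normalizer (C.D : Set G)

/-- The element of a pair of permutations of equal sign. -/
def pair (C : Config G) (x y : Perm (Fin 5)) : G := C.fH x * C.kH (eps x * y)

variable [Finite G] {C : Config G} (hC : C.ProdHyp)

theorem fH_eps (C : Config G) (x : Perm (Fin 5)) : C.fH (eps x) = C.kH (eps x) := by
  rcases eps_cases x with h | h <;> rw [h]
  · rw [map_one, map_one]
  · rw [C.fH_u5, C.kH_u5]

include hC

theorem pair_mul {x y x' y' : Perm (Fin 5)} (h : Perm.sign x = Perm.sign y)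
    (h' : Perm.sign x' = Perm.sign y') :
    C.pair x y * C.pair x' y' = C.pair (x * x') (y * y') := by
  have hey : Perm.sign (eps x * y) = 1 := by rw [map_mul, sign_eps, h, Int.units_mul_self]
  have hc := C.commute_AB hC.hII hC.hN (sign_even x').1 hey
  unfold pair
  rw [show C.fH x' = C.fH (x' * eps x') * C.kH (eps x') by
    rw [← fH_eps, ← map_mul, mul_assoc, eps_sq, mul_one]]
  calc C.fH x * C.kH (eps x * y) * (C.fH (x' * eps x') * C.kH (eps x') * C.kH (eps x' * y'))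
      = C.fH x * (C.kH (eps x * y) * C.fH (x' * eps x')) * (C.kH (eps x') * C.kH (eps x' * y')) := by
        group
    _ = C.fH x * (C.fH (x' * eps x') * C.kH (eps x * y)) * C.kH y' := by
      rw [hc.symm.eq, ← map_mul C.kH, ← mul_assoc (eps x'), eps_sq, one_mul]
    _ = C.fH (x * x') * (C.fH (eps x') * C.kH (eps x * (y * y'))) := by
      simp only [map_mul, mul_assoc]
    _ = _ := by
      rw [fH_eps, ← map_mul C.kH, eps_mul x x', eps_comm x x', mul_assoc (eps x')]

omit hC in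
theorem kH_eq (C : Config G) (y : Perm (Fin 5)) : C.kH y = C.pair (eps y) y := by
  have he : eps (eps y) = eps y := eps_congr (sign_eps y)
  unfold pair
  rw [he, fH_eps, ← map_mul, ← mul_assoc, eps_sq, one_mul]

omit hC in
theorem fH_eq (C : Config G) (x : Perm (Fin 5)) : C.fH x = C.pair x (eps x) := by
  unfold pair
  rw [eps_sq, map_one, mul_one]

omit hC in
theorem pair_one (C : Config G) : C.pair 1 1 = 1 := by
  unfold pair
  rw [eps_even (map_one _), one_mul, map_one, map_one, mul_one]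

theorem pair_inv {x y : Perm (Fin 5)} (h : Perm.sign x = Perm.sign y) :
    (C.pair x y)⁻¹ = C.pair x⁻¹ y⁻¹ := by
  refine inv_eq_of_mul_eq_one_right ?_
  rw [pair_mul hC h (by rw [Perm.sign_inv, Perm.sign_inv, h]), mul_inv_cancel, mul_inv_cancel,
    pair_one]

theorem pair_eq_one {x y : Perm (Fin 5)} (h : Perm.sign x = Perm.sign y) (h1 : C.pair x y = 1) :
    x = 1 ∧ y = 1 := by
  have hx : C.fH (x * eps x) = C.kH y⁻¹ := by
    rw [map_mul, fH_eps]
    have h2 : C.fH x = (C.kH (eps x * y))⁻¹ := eq_inv_of_mul_eq_one_left h1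
    rw [h2, ← map_inv, ← map_mul, mul_inv_rev, inv_of_sq (eps_sq x), mul_assoc, eps_sq, mul_one]
  have hy : y⁻¹ = 1 := by
    have hc : ∀ v, Perm.sign v = 1 → y⁻¹ * v = v * y⁻¹ := fun v hv => C.kH_inj (by
      rw [map_mul, map_mul, ← hx]; exact (C.commute_AB hC.hII hC.hN (sign_even x).1 hv).eq)
    exact central_five _ (hc _ a5_facts.1) (hc _ a5_facts.2.2.1) (hc _ a5_facts.2.1)
  rw [hy, map_one] at hx
  have hxe : x * eps x = 1 := C.fH_inj (hx.trans C.fH.map_one.symm)
  rw [inv_eq_one] at hy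
  subst hy
  rw [map_one] at h
  exact ⟨by rwa [eps_even h, mul_one] at hxe, rfl⟩

theorem pair_eq {x y x' y' : Perm (Fin 5)} (h : Perm.sign x = Perm.sign y)
    (h' : Perm.sign x' = Perm.sign y') (he : C.pair x y = C.pair x' y') : x = x' ∧ y = y' := by
  have hi : Perm.sign x'⁻¹ = Perm.sign y'⁻¹ := by rw [Perm.sign_inv, Perm.sign_inv, h']
  have h1 : C.pair (x * x'⁻¹) (y * y'⁻¹) = 1 := by
    rw [← pair_mul hC h hi, he, ← pair_inv hC h', mul_inv_cancel]
  obtain ⟨a, b⟩ := pair_eq_one hC (by rw [map_mul, map_mul, h, hi]) h1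
  exact ⟨mul_inv_eq_one.mp a, mul_inv_eq_one.mp b⟩

theorem pair_conj {g k x y : Perm (Fin 5)} (hg : Perm.sign g = Perm.sign k)
    (h : Perm.sign x = Perm.sign y) :
    C.pair g k * C.pair x y * (C.pair g k)⁻¹ = C.pair (g * x * g⁻¹) (k * y * k⁻¹) := by
  rw [pair_inv hC hg, pair_mul hC hg h,
    pair_mul hC (by rw [map_mul, map_mul, hg, h]) (by rw [Perm.sign_inv, Perm.sign_inv, hg])]

theorem pair_swap {x y : Perm (Fin 5)} (h : Perm.sign x = Perm.sign y) :
    C.n * C.pair x y * C.n = C.pair y x := by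
  have he : eps y = eps x := eps_congr h.symm
  have hxe : Perm.sign (x * eps x) = 1 := (sign_even x).1
  have hye : Perm.sign (y * eps y) = 1 := (sign_even y).1
  have hc := C.commute_AB hC.hII hC.hN hye hxe
  unfold pair
  rw [C.n_hom, C.n_fH, C.n_kH]
  calc C.kH x * C.fH (eps x * y)
      = C.kH (x * eps x) * (C.kH (eps x) * C.fH (eps x * y)) := by
        rw [← mul_assoc, ← map_mul, mul_assoc, eps_sq, mul_one]
    _ = C.kH (x * eps x) * C.fH (y * eps y) * C.fH (eps y) := by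
        rw [← fH_eps, ← map_mul, ← mul_assoc (eps x), eps_sq, one_mul, mul_assoc, ← map_mul,
          mul_assoc y, eps_sq, mul_one]
    _ = C.fH (y * eps y) * C.kH (x * eps x) * C.kH (eps y) := by rw [hc.symm.eq, fH_eps]
    _ = C.fH (y * eps y) * C.kH x := by
        rw [mul_assoc, ← map_mul, mul_assoc x, he, eps_sq, mul_one]
    _ = C.fH y * (C.fH (eps y) * C.kH x) := by rw [map_mul, mul_assoc]
    _ = _ := by rw [fH_eps, ← map_mul]

omit [Finite G] in
theorem r_eq : C.r = C.pair 1 r5 := by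
  unfold pair
  rw [eps_even (map_one _), one_mul, map_one, one_mul, hC.hII]

omit [Finite G] in
theorem s_eq : C.s = C.pair r5 1 := by
  unfold pair
  rw [eps_even a5_facts.2.1, one_mul, map_one, mul_one, C.fH_r5 hC.hII]

omit hC in
theorem u_eq (C : Config G) : C.u = C.pair u5 u5 := by
  rw [← C.kH_u5, kH_eq C u5]
  congr 1

omit hC [Finite G] in
theorem z_eq (C : Config G) : C.z = C.pair c5 1 := by
  unfold pair
  rw [eps_even a5_facts.1, one_mul, map_one, mul_one, C.fH_c5]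

omit hC [Finite G] in
theorem b_eq (C : Config G) : C.b = C.pair 1 a5 := by
  unfold pair
  rw [eps_even (map_one _), one_mul, map_one, one_mul]

theorem rs_eq : C.r * C.s = C.pair r5 r5 := by
  rw [r_eq hC, s_eq hC, pair_mul hC (by rw [map_one, a5_facts.2.1]) (by rw [map_one, a5_facts.2.1]),
    one_mul, mul_one]

theorem rs_comm_n : Commute C.n (C.r * C.s) := by
  refine commute_of_conj_eq ?_
  rw [C.n_inv, rs_eq hC, pair_swap hC rfl]

/-- The subgroup of pairs extended by the exchanging involution. -/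
def pairH : Subgroup G where
  carrier := {g | ∃ x y, Perm.sign x = Perm.sign y ∧ (g = C.pair x y ∨ g = C.pair x y * C.n)}
  one_mem' := ⟨1, 1, rfl, Or.inl (pair_one C).symm⟩
  mul_mem' := by
    rintro g g' ⟨x, y, h, hg⟩ ⟨x', y', h', hg'⟩
    have hs := (pair_swap hC h').symm
    have hswap : C.n * C.pair x' y' = C.pair y' x' * C.n := by
      rw [hs, mul_assoc, C.n_sq, mul_one]
    rcases hg with rfl | rfl <;> rcases hg' with rfl | rfl
    · exact ⟨x * x', y * y', by rw [map_mul, map_mul, h, h'], Or.inl (pair_mul hC h h')⟩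
    · exact ⟨x * x', y * y', by rw [map_mul, map_mul, h, h'],
        Or.inr (by rw [← mul_assoc, pair_mul hC h h'])⟩
    · exact ⟨x * y', y * x', by rw [map_mul, map_mul, h, h'],
        Or.inr (by rw [mul_assoc, hswap, ← mul_assoc, pair_mul hC h h'.symm])⟩
    · exact ⟨x * y', y * x', by rw [map_mul, map_mul, h, h'], Or.inl (by
        rw [mul_assoc (C.pair x y) C.n, ← mul_assoc C.n, hswap, mul_assoc (C.pair y' x'), C.n_sq,
          mul_one, pair_mul hC h h'.symm])⟩
  inv_mem' := by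
    rintro g ⟨x, y, h, rfl | rfl⟩
    · exact ⟨_, _, by rw [Perm.sign_inv, Perm.sign_inv, h], Or.inl (pair_inv hC h)⟩
    · have hi : Perm.sign x⁻¹ = Perm.sign y⁻¹ := by rw [Perm.sign_inv, Perm.sign_inv, h]
      refine ⟨y⁻¹, x⁻¹, hi.symm, Or.inr ?_⟩
      rw [mul_inv_rev, C.n_inv, pair_inv hC h, ← pair_swap hC hi, mul_assoc, C.n_sq, mul_one]

omit [Finite G] in
theorem mem_pairH [Finite G] {g : G} : g ∈ pairH hC ↔
    ∃ x y, Perm.sign x = Perm.sign y ∧ (g = C.pair x y ∨ g = C.pair x y * C.n) := Iff.rfl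

theorem pair_mem {x y : Perm (Fin 5)} (h : Perm.sign x = Perm.sign y) :
    C.pair x y ∈ pairH hC := ⟨x, y, h, Or.inl rfl⟩

theorem n_mem_pairH : C.n ∈ pairH hC :=
  ⟨1, 1, rfl, Or.inr (by rw [pair_one, one_mul])⟩

theorem u_mem_pairH : C.u ∈ pairH hC := u_eq C ▸ pair_mem hC rfl

theorem ι_mem (m : M) : C.ι m ∈ pairH hC := by
  obtain ⟨a, b⟩ := m
  have hz : C.z ∈ pairH hC := by
    rw [z_eq]; exact pair_mem hC (by rw [map_one, a5_facts.1])
  have hs : C.s ∈ pairH hC := by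
    rw [s_eq hC]; exact pair_mem hC (by rw [map_one, a5_facts.2.1])
  have hb : C.kH b ∈ pairH hC := by rw [kH_eq]; exact pair_mem hC (sign_eps b)
  obtain ⟨i, rfl | rfl⟩ := three_split a
  · rw [show ((c3 ^ i.1, b) : M) = dM 1 0 ^ i.1 * (1, b) from Prod.ext (by simp [dM]) (by simp [dM]),
      map_mul, map_pow]
    exact mul_mem (pow_mem hz _) hb
  · rw [show ((c3 ^ i.1 * swap 0 1, b) : M) = dM 1 0 ^ i.1 * (swap 0 1, 1) * (1, b) from
      Prod.ext (by simp [dM]) (by simp [dM]), map_mul, map_mul, map_pow]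
    exact mul_mem (mul_mem (pow_mem hz _) hs) hb

theorem Cz_le {g : G} (h : Commute g C.z) : g ∈ pairH hC := by
  obtain ⟨i, b, rfl⟩ := C.cent_z h
  exact ι_mem hC _

theorem Cu_le {g : G} (h : Commute g C.u) : g ∈ pairH hC := by
  obtain ⟨i, j, hij⟩ := (C.mem_D_iff _).mp
    ((mem_normalizer_iff.mp (hC.hN g h) _).mp (C.dM_mem_D 1 0))
  have range_of : ∀ (g : G) (i : Fin 3), g * C.z * g⁻¹ = C.ι (dM i 0) → g ∈ pairH hC := by
    intro g i hij
    have hi : i ≠ 0 := by
      rintro rfl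
      rw [dM_zero, map_one, conj_eq_one_iff] at hij
      exact absurd (C.inj (hij.trans C.ι.map_one.symm)) (by decide +kernel)
    obtain ⟨m, hm⟩ := C.norm_z g (by rcases fin3_cases i hi with rfl | rfl <;> simp [hij])
    exact hm ▸ ι_mem hC m
  obtain rfl | hj := eq_or_ne j 0
  · exact range_of g i hij
  obtain rfl | hi := eq_or_ne i 0
  · have hn : C.n * g * C.z * (C.n * g)⁻¹ = C.ι (dM j 0) := by
      calc C.n * g * C.z * (C.n * g)⁻¹ = C.n * (g * C.z * g⁻¹) * C.n⁻¹ := by group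
        _ = _ := by
          rw [hij, dM_snd_pow, map_pow, ← conj_pow, C.n_inv, C.n_w, ← map_pow, ← dM_fst_pow]
    simpa [C.n_sq'] using mul_mem (n_mem_pairH hC) (range_of _ j hn)
  · exfalso
    obtain ⟨e, f, hq⟩ := qM_table i j hi hj
    refine C.z_ne_y (C.ι (qM e f) * g) ?_
    calc C.ι (qM e f) * g * C.z * (C.ι (qM e f) * g)⁻¹
        = C.ι (qM e f) * (g * C.z * g⁻¹) * (C.ι (qM e f))⁻¹ := by group
      _ = _ := by rw [hij, ← map_inv, ← map_mul, ← map_mul, hq]

theorem n_ne_u : C.n ≠ C.u ∧ C.n ≠ 1 := by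
  have hne : C.z ≠ C.w := fun e => absurd (C.inj e) (by decide +kernel)
  constructor <;> intro e
  · apply hne
    calc C.z = C.z * (C.u * C.u) := by rw [C.u_sq, mul_one]
      _ = C.u * C.z * C.u := by
        rw [← mul_assoc, (C.D_comm_u (C.dM_mem_D 1 0)).eq]
      _ = C.w := by rw [← e]; exact C.n_z
  · apply hne
    calc C.z = C.n * C.z * C.n := by rw [e, one_mul, mul_one]
      _ = C.w := C.n_z

theorem n_comm_y : Commute C.n C.y := by
  refine commute_of_conj_eq ?_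
  rw [C.n_inv, show C.y = C.z * C.w by rw [← map_mul]; congr 1, C.n_hom, C.n_z, C.n_w]
  exact (C.D_comm (C.dM_mem_D 0 1) (C.dM_mem_D 1 0)).eq

theorem r_no_y (a : G) : ¬ Commute C.r (a * C.y * a⁻¹) := by
  refine C.no_y C.r_sq ?_ (C.r_z hC.hII) (C.r_ne_conj_u hC.hII) a
  rw [hC.hII]
  exact fun e => a5_facts.2.2.2.2.2.2.2.2.2.2.1 (C.kH_inj (e.trans C.kH.map_one.symm))

/-- The classes of involutions of the subgroup of pairs. -/
theorem invol_classes {g : G} (hg : g ∈ pairH hC) (h2 : g * g = 1) (h1 : g ≠ 1) :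
    ∃ c ∈ pairH hC, g = c * C.u * c⁻¹ ∨ g = c * C.r * c⁻¹ ∨ g = c * (C.r * C.s) * c⁻¹ ∨
      g = c * C.n * c⁻¹ ∨ g = c * (C.u * C.n) * c⁻¹ := by
  obtain ⟨x, y, h, rfl | rfl⟩ := hg
  · rw [pair_mul hC h h] at h2
    obtain ⟨hx2, hy2⟩ := pair_eq_one hC (by rw [map_mul, map_mul, h]) h2
    rcases Int.units_eq_one_or (Perm.sign x) with hs | hs
    · obtain rfl | hx1 := eq_or_ne x 1
      · have hy1 : y ≠ 1 := fun e => h1 (by rw [e, pair_one])
        obtain ⟨k, hk, rfl⟩ := invol_even y hy2 hy1 (h ▸ hs)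
        refine ⟨_, pair_mem hC (x := 1) (y := k) (by rw [map_one, hk]), Or.inr (Or.inl ?_)⟩
        rw [r_eq hC, pair_conj hC (by rw [map_one, hk]) (by rw [map_one, a5_facts.2.1]), one_mul,
          inv_one, mul_one]
      · obtain ⟨g', hg', rfl⟩ := invol_even x hx2 hx1 hs
        obtain rfl | hy1 := eq_or_ne y 1
        · refine ⟨C.pair g' 1 * C.n, mul_mem (pair_mem hC (by rw [map_one, hg'])) (n_mem_pairH hC),
            Or.inr (Or.inl ?_)⟩
          rw [show C.pair g' 1 * C.n * C.r * (C.pair g' 1 * C.n)⁻¹ =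
              C.pair g' 1 * (C.n * C.r * C.n⁻¹) * (C.pair g' 1)⁻¹ by group, C.n_inv, r_eq hC,
            pair_swap hC (by rw [map_one, a5_facts.2.1]),
            pair_conj hC (by rw [map_one, hg']) (by rw [map_one, a5_facts.2.1]), mul_one, inv_one,
            mul_one]
        · obtain ⟨k, hk, rfl⟩ := invol_even y hy2 hy1 (h ▸ hs)
          refine ⟨_, pair_mem hC (x := g') (y := k) (by rw [hg', hk]),
            Or.inr (Or.inr (Or.inl ?_))⟩
          rw [rs_eq hC, pair_conj hC (by rw [hg', hk]) rfl]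
    · obtain ⟨g', hg', rfl⟩ := invol_odd x hx2 hs
      obtain ⟨k, hk, rfl⟩ := invol_odd y hy2 (h ▸ hs)
      exact ⟨_, pair_mem hC (x := g') (y := k) (by rw [hg', hk]), Or.inl (by
        rw [u_eq, pair_conj hC (by rw [hg', hk]) rfl])⟩
  · have hsq : C.pair x y * C.n * (C.pair x y * C.n) = C.pair (x * y) (y * x) := by
      rw [← pair_mul hC h h.symm, ← pair_swap hC h]; group
    rw [hsq] at h2
    obtain ⟨hxy, -⟩ := pair_eq_one hC (by rw [map_mul, map_mul, mul_comm]) h2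
    obtain rfl : y = x⁻¹ := (inv_eq_of_mul_eq_one_right hxy).symm
    have key : ∀ g' : Perm (Fin 5), Perm.sign g' = 1 →
        ∀ v, (v = 1 ∨ v = u5) → C.pair g' 1 * (C.pair v v * C.n) * (C.pair g' 1)⁻¹ =
          C.pair (g' * v) (v * g'⁻¹) * C.n := by
      intro g' hg' v _
      have hi : Perm.sign (g'⁻¹) = Perm.sign (1 : Perm (Fin 5)) := by
        rw [Perm.sign_inv, hg', map_one]
      rw [pair_inv hC (by rw [map_one, hg']), inv_one]
      calc C.pair g' 1 * (C.pair v v * C.n) * C.pair g'⁻¹ 1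
          = C.pair g' 1 * C.pair v v * (C.n * C.pair g'⁻¹ 1 * C.n) * C.n := by
            simp only [mul_assoc, C.n_sq, mul_one]
        _ = _ := by
          rw [pair_swap hC hi, pair_mul hC (by rw [map_one, hg']) rfl,
            pair_mul hC (by rw [map_mul, map_mul, hg', map_one]) hi.symm, mul_one, one_mul]
    refine ⟨C.pair (x * eps x) 1, pair_mem hC (by rw [map_one]; exact (sign_even x).1), ?_⟩
    have e : x * eps x * eps x = x := by rw [mul_assoc, eps_sq, mul_one]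
    have e' : eps x * (x * eps x)⁻¹ = x⁻¹ := by
      rw [mul_inv_rev, inv_of_sq (eps_sq x), ← mul_assoc, eps_sq, one_mul]
    rcases eps_cases x with h' | h'
    · right; right; right; left
      have hk := key (x * eps x) (sign_even x).1 (eps x) (eps_cases x)
      rw [e, e'] at hk
      rw [← hk, h', pair_one, one_mul]
    · right; right; right; right
      have hk := key (x * eps x) (sign_even x).1 (eps x) (eps_cases x)
      rw [e, e'] at hk
      rw [← hk, h', ← u_eq]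

theorem r_class {g : G} (hg : g ∈ pairH hC) (hr : ∃ e, g = e * C.r * e⁻¹) :
    ∃ c ∈ pairH hC, g = c * C.r * c⁻¹ ∨ g = c * (C.r * C.s) * c⁻¹ := by
  obtain ⟨e, rfl⟩ := hr
  obtain ⟨c, hc, h | h | h | h | h⟩ := invol_classes hC hg (conj_sq C.r_sq e) (by
    rw [ne_eq, conj_eq_one_iff, hC.hII]
    exact fun e' => a5_facts.2.2.2.2.2.2.2.2.2.2.1 (C.kH_inj (e'.trans C.kH.map_one.symm)))
  · exfalso
    refine C.r_ne_conj_u hC.hII (e⁻¹ * c) ?_
    calc e⁻¹ * c * C.u * (e⁻¹ * c)⁻¹ = e⁻¹ * (c * C.u * c⁻¹) * e := by group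
      _ = C.r := by rw [← h]; group
  · exact ⟨c, hc, Or.inl h⟩
  · exact ⟨c, hc, Or.inr h⟩
  · exfalso
    refine r_no_y hC (e⁻¹ * c) ?_
    have := commute_conj (n_comm_y hC) (e⁻¹ * c)
    rwa [show e⁻¹ * c * C.n * (e⁻¹ * c)⁻¹ = e⁻¹ * (c * C.n * c⁻¹) * e by group, ← h,
      show e⁻¹ * (e * C.r * e⁻¹) * e = C.r by group] at this
  · exfalso
    refine r_no_y hC (e⁻¹ * c) ?_
    have := commute_conj ((C.D_comm_u (C.dM_mem_D 1 1)).symm.mul_left (n_comm_y hC)) (e⁻¹ * c)
    rwa [show e⁻¹ * c * (C.u * C.n) * (e⁻¹ * c)⁻¹ = e⁻¹ * (c * (C.u * C.n) * c⁻¹) * e by group, ← h,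
      show e⁻¹ * (e * C.r * e⁻¹) * e = C.r by group] at this

theorem u_class {g : G} (hg : g ∈ pairH hC) (hu : ∃ e, g = e * C.u * e⁻¹) :
    ∃ c ∈ pairH hC, g = c * C.u * c⁻¹ ∨ g = c * (C.r * C.s) * c⁻¹ := by
  obtain ⟨e, rfl⟩ := hu
  obtain ⟨c, hc, h | h | h | h | h⟩ := invol_classes hC hg (conj_sq C.u_sq e) (by
    rw [ne_eq, conj_eq_one_iff]; exact C.u_ne)
  · exact ⟨c, hc, Or.inl h⟩
  · exfalso
    refine C.r_ne_conj_u hC.hII (c⁻¹ * e) ?_
    calc c⁻¹ * e * C.u * (c⁻¹ * e)⁻¹ = c⁻¹ * (e * C.u * e⁻¹) * c := by group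
      _ = C.r := by rw [h]; group
  · exact ⟨c, hc, Or.inr h⟩
  · exfalso
    have hh : c⁻¹ * e * C.u * (c⁻¹ * e)⁻¹ = C.n := by
      calc c⁻¹ * e * C.u * (c⁻¹ * e)⁻¹ = c⁻¹ * (e * C.u * e⁻¹) * c := by group
        _ = C.n := by rw [h]; group
    have := C.conj_u_y (c⁻¹ * e) (by rw [hh]; exact n_comm_y hC)
    exact (n_ne_u hC).1 (hh.symm.trans this)
  · exfalso
    have hh : c⁻¹ * e * C.u * (c⁻¹ * e)⁻¹ = C.u * C.n := by
      calc c⁻¹ * e * C.u * (c⁻¹ * e)⁻¹ = c⁻¹ * (e * C.u * e⁻¹) * c := by group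
        _ = C.u * C.n := by rw [h]; group
    have := C.conj_u_y (c⁻¹ * e)
      (by rw [hh]; exact (C.D_comm_u (C.dM_mem_D 1 1)).symm.mul_left (n_comm_y hC))
    exact (n_ne_u hC).2 (mul_eq_left.mp (hh.symm.trans this))

end Config

end CfsgLib.SymEight40
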