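import Cfsg.Agent.SymEight40.ProdVr

/-!
The centraliser of `r`, and the involutions `u`, `r`, `r * s` are pairwise not conjugate.
-/

set_option autoImplicit false

open Equiv Subgroup

namespace CfsgLib.SymEight40

theorem r5_odd : ∀ x : Perm (Fin 5), x * r5 = r5 * x → Perm.sign x = -1 → x * x = 1 →
    ∃ e : Bool, x = (if e then a5 else 1) * u5 * (if e then a5 else 1)⁻¹ := by
  decide +kernel

theorem c5_move : ∀ i : Fin 3,
    c5 ^ i.1 * a5 * (c5 ^ i.1)⁻¹ * r5 = r5 * (c5 ^ i.1 * a5 * (c5 ^ i.1)⁻¹) → i = 0 := by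
  decide +kernel

theorem card_cent_r5 : Nat.card {x : Perm (Fin 5) // x * r5 = r5 * x} = 8 ∧
    Nat.card {y : Perm (Fin 5) // y = 1 ∨ y = r5 ∨ y = a5 ∨ y = a5 * r5} = 4 := by
  rw [Nat.card_eq_fintype_card, Nat.card_eq_fintype_card]
  decide +kernel

theorem r5_u5 : u5 * r5 = r5 * u5 ∧ p5 * r5 = r5 * p5 ∧ p5 * swap 1 2 = c5 ∧
    (swap 1 2 : Perm (Fin 5)) * swap 1 2 = 1 ∧ Perm.sign (swap 1 2 : Perm (Fin 5)) = -1 ∧
    p5 * p5 = 1 ∧ Perm.sign p5 = -1 ∧ Perm.sign u5 = -1 ∧ u5 * u5 = 1 := by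
  decide +kernel

namespace Config

variable {G : Type*} [Group G] [Finite G] {C : Config G} (hC : C.ProdHyp)

include hC

theorem comm_r_iff {x y : Perm (Fin 5)} (h : Perm.sign x = Perm.sign y) :
    Commute (C.pair x y) C.r ↔ y * r5 = r5 * y := by
  have h1 : Perm.sign (1 : Perm (Fin 5)) = Perm.sign r5 := by rw [map_one, a5_facts.2.1]
  rw [commute_iff_eq, r_eq hC, pair_mul hC h h1, pair_mul hC h1 h, one_mul, mul_one]
  refine ⟨fun e => (pair_eq hC ?_ ?_ e).2, fun e => by rw [e]⟩ <;>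
    simp [h, a5_facts.2.1]

theorem swap_not_comm_r {x y : Perm (Fin 5)} (h : Perm.sign x = Perm.sign y) :
    ¬ Commute (C.pair x y * C.n) C.r := by
  intro hc
  have h1 := conj_eq_of_commute hc
  rw [mul_inv_rev, C.n_inv, show C.pair x y * C.n * C.r * (C.n * (C.pair x y)⁻¹) =
      C.pair x y * (C.n * C.r * C.n) * (C.pair x y)⁻¹ by group, r_eq hC,
    pair_swap hC (by rw [map_one, a5_facts.2.1]),
    pair_conj hC h (by rw [map_one, a5_facts.2.1]), mul_one, mul_inv_cancel] at h1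
  have h2 := (pair_eq hC (by simp [a5_facts.2.1]) (by rw [map_one, a5_facts.2.1]) h1).1
  exact a5_facts.2.2.2.2.2.2.2.2.2.2.1 (conj_eq_one_iff.mp h2)

/-- The Sylow subgroup of the pairs centralising `r`. -/
def tSub : Subgroup G where
  carrier := {g | ∃ x y, Perm.sign x = Perm.sign y ∧ x * r5 = r5 * x ∧ y * r5 = r5 * y ∧
    g = C.pair x y}
  one_mem' := ⟨1, 1, rfl, by simp, by simp, (pair_one C).symm⟩
  mul_mem' := by
    rintro g g' ⟨x, y, h, hx, hy, rfl⟩ ⟨x', y', h', hx', hy', rfl⟩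
    exact ⟨x * x', y * y', by rw [map_mul, map_mul, h, h'],
      ((show Commute x r5 from hx).mul_left hx').eq, ((show Commute y r5 from hy).mul_left hy').eq,
      pair_mul hC h h'⟩
  inv_mem' := by
    rintro g ⟨x, y, h, hx, hy, rfl⟩
    exact ⟨x⁻¹, y⁻¹, by rw [Perm.sign_inv, Perm.sign_inv, h],
      (show Commute x r5 from hx).inv_left.eq, (show Commute y r5 from hy).inv_left.eq,
      pair_inv hC h⟩

theorem pair_pow {x y : Perm (Fin 5)} (h : Perm.sign x = Perm.sign y) (k : ℕ) :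
    C.pair x y ^ k = C.pair (x ^ k) (y ^ k) := by
  induction k with
  | zero => rw [pow_zero, pow_zero, pow_zero, pair_one]
  | succ k ih =>
    rw [pow_succ, ih, pair_mul hC (by rw [map_pow, map_pow, h]) h, ← pow_succ, ← pow_succ]

theorem tSub_pow {g : G} (hg : g ∈ tSub hC) : g ^ 8 = 1 := by
  obtain ⟨x, y, h, hx, hy, rfl⟩ := hg
  rw [pair_pow hC h, cent_r5_pow x hx, cent_r5_pow y hy, pair_one]

theorem tSub_n {g : G} (hg : g ∈ tSub hC) : C.n * g * C.n ∈ tSub hC := by
  obtain ⟨x, y, h, hx, hy, rfl⟩ := hg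
  exact ⟨y, x, h.symm, hy, hx, pair_swap hC h⟩

/-- The two-group containing `tSub` and the exchanging involution. -/
def tExt : Subgroup G where
  carrier := {g | g ∈ tSub hC ∨ g * C.n ∈ tSub hC}
  one_mem' := Or.inl (one_mem _)
  mul_mem' := by
    intro g g' hg hg'
    rcases hg with hg | hg <;> rcases hg' with hg' | hg'
    · exact Or.inl (mul_mem hg hg')
    · exact Or.inr (by rw [mul_assoc]; exact mul_mem hg hg')
    · right
      have := mul_mem hg (tSub_n hC hg')
      simpa [mul_assoc, C.n_sq'] using this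
    · left
      have := mul_mem hg (tSub_n hC hg')
      simpa [mul_assoc, C.n_sq', C.n_sq] using this
  inv_mem' := by
    intro g hg
    rcases hg with hg | hg
    · exact Or.inl (inv_mem hg)
    · right
      have := tSub_n hC (inv_mem hg)
      simpa [mul_inv_rev, C.n_inv, mul_assoc, C.n_sq'] using this

theorem tSub_lt : Nat.card (tSub hC) < Nat.card (tExt hC) := by
  have hle : tSub hC ≤ tExt hC := fun g hg => Or.inl hg
  refine lt_of_le_of_ne (Subgroup.card_le_of_le hle) fun e => ?_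
  have heq := Subgroup.eq_of_le_of_card_ge hle e.ge
  have hn : C.n ∈ tExt hC := Or.inr (by rw [C.n_sq]; exact one_mem _)
  rw [← heq] at hn
  obtain ⟨x, y, h, -, -, he⟩ := hn
  have hz := C.n_z
  rw [he] at hz
  have h2 : C.pair x y * C.z * (C.pair x y)⁻¹ = C.w := by
    rw [← he, C.n_inv]; exact C.n_z
  have hw : C.w = C.pair 1 c5 := by
    rw [← C.kH_c5, kH_eq C c5, eps_even a5_facts.1]
  rw [z_eq, pair_conj hC h (by rw [map_one, a5_facts.1]), hw] at h2
  have h3 := (pair_eq hC (by simp [a5_facts.1]) (by rw [map_one, a5_facts.1]) h2).1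
  exact absurd (conj_eq_one_iff.mp h3) (by decide +kernel)

theorem card_tSub_ge : 32 ≤ Nat.card (tSub hC) := by
  have h4 : ∀ y : {y : Perm (Fin 5) // y = 1 ∨ y = r5 ∨ y = a5 ∨ y = a5 * r5},
      Perm.sign y.1 = 1 ∧ y.1 * r5 = r5 * y.1 := fun y =>
    ⟨(four_table y.1 y.2).1, (four_table y.1 y.2).2.1⟩
  have hs : ∀ p : {x : Perm (Fin 5) // x * r5 = r5 * x} ×
      {y : Perm (Fin 5) // y = 1 ∨ y = r5 ∨ y = a5 ∨ y = a5 * r5},
      Perm.sign p.1.1 = Perm.sign (p.2.1 * eps p.1.1) := fun p => by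
    rw [map_mul, (h4 p.2).1, one_mul, sign_eps]
  have hm : ∀ p : {x : Perm (Fin 5) // x * r5 = r5 * x} ×
      {y : Perm (Fin 5) // y = 1 ∨ y = r5 ∨ y = a5 ∨ y = a5 * r5},
      C.pair p.1.1 (p.2.1 * eps p.1.1) ∈ tSub hC := fun p => by
    refine ⟨_, _, hs p, p.1.2, ?_, rfl⟩
    refine ((show Commute p.2.1 r5 from (h4 p.2).2).mul_left ?_).eq
    rcases eps_cases p.1.1 with h | h <;> rw [h]
    exacts [Commute.one_left _, r5_u5.1]
  have h := Nat.card_le_card_of_injective (fun p => (⟨_, hm p⟩ : tSub hC)) fun p q hpq => by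
    obtain ⟨h1, h2⟩ := pair_eq hC (hs p) (hs q) (congrArg (fun v : tSub hC => (v : G)) hpq)
    rw [h1] at h2
    exact Prod.ext (Subtype.ext h1) (Subtype.ext (mul_right_cancel h2))
  rwa [Nat.card_prod, card_cent_r5.1, card_cent_r5.2] at h

theorem tExt_two : IsPGroup 2 (tExt hC) := by
  intro g
  refine ⟨4, Subtype.ext ?_⟩
  rw [Subgroup.coe_pow, Subgroup.coe_one]
  rcases g.2 with h | h
  · rw [show (2 : ℕ) ^ 4 = 8 * 2 by norm_num, pow_mul, tSub_pow hC h, one_pow]
  · have h2 : (g : G) * g ∈ tSub hC := by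
      have := mul_mem h (tSub_n hC h)
      simpa [mul_assoc, C.n_sq', C.n_sq] using this
    rw [show (2 : ℕ) ^ 4 = 2 * 8 by norm_num, pow_mul, pow_two, tSub_pow hC h2]

theorem tExt_le_rs : tExt hC ≤ centralizer ({C.r * C.s} : Set G) := by
  have hsub : ∀ g ∈ tSub hC, Commute g (C.r * C.s) := by
    rintro _ ⟨x, y, h, hx, hy, rfl⟩
    rw [commute_iff_eq, rs_eq hC, pair_mul hC h rfl, pair_mul hC rfl h, hx, hy]
  intro g hg
  rw [mem_centralizer_singleton_iff]
  rcases hg with hg | hg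
  · exact (hsub g hg).eq
  · have h := (hsub _ hg).mul_left (rs_comm_n hC)
    rw [mul_assoc, C.n_sq, mul_one] at h
    exact h.eq

theorem u_ne_conj_rs (e : G) : e * C.u * e⁻¹ ≠ C.r * C.s := by
  intro he
  set N := normalizer (C.D : Set G)
  have hle : ∀ g ∈ tExt hC, e⁻¹ * g * e ∈ N := fun g hg => by
    refine hC.hN _ ?_
    have h := commute_conj (show Commute g (C.r * C.s) from
      mem_centralizer_singleton_iff.mp (tExt_le_rs hC hg)) e⁻¹
    rw [← he] at h
    simpa [mul_assoc] using h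
  obtain ⟨k, hk⟩ := IsPGroup.iff_card.mp (tExt_two hC)
  have h1 : Nat.card (tExt hC) ∣ Nat.card N := by
    refine Subgroup.card_dvd_of_injective
      (((MulAut.conj e⁻¹).toMonoidHom.comp (tExt hC).subtype).codRestrict N fun g => by
        change e⁻¹ * (g : G) * e⁻¹⁻¹ ∈ N
        rw [inv_inv]; exact hle g g.2) fun a b h => ?_
    exact Subtype.ext ((MulAut.conj e⁻¹).injective (congrArg (fun v : N => (v : G)) h))
  have h9 : 9 ∣ Nat.card N := C.card_D ▸ Subgroup.card_dvd_of_le le_normalizer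
  have hmul : Nat.card N = 8 * Nat.card C.ψ.ker := by
    rw [Subgroup.card_eq_card_quotient_mul_card_subgroup C.ψ.ker,
      Nat.card_congr (QuotientGroup.quotientKerEquivOfSurjective C.ψ C.ψ_surj).toEquiv,
      Nat.card_eq_fintype_card, DihedralGroup.card]
  have hk18 : Nat.card C.ψ.ker ≤ 18 := by
    have hp : ∀ g : C.ψ.ker, ∃ p, ((g : N) : G) = C.ι (cM p) := fun g => by
      have h := mem_centralizer_iff.mp ((C.ψ_ker _).mp g.2)
      exact C.cent_D _ (h _ (C.dM_mem_D 1 0)).symm (h _ (C.dM_mem_D 0 1)).symm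
    choose f hf using hp
    have h := Nat.card_le_card_of_injective f fun a b h =>
      Subtype.ext (Subtype.ext ((hf a).trans ((congrArg (fun p => C.ι (cM p)) h).trans (hf b).symm)))
    rwa [Nat.card_eq_fintype_card (α := Fin 3 × Fin 3 × Fin 2)] at h
  have h9' : 9 ∣ Nat.card C.ψ.ker :=
    (show Nat.Coprime 9 8 by norm_num).dvd_of_dvd_mul_left (hmul ▸ h9)
  have hlt := tSub_lt hC
  have hge := card_tSub_ge hC
  rw [hk] at h1 hlt
  have h16 : 2 ^ k ∣ 16 := by
    have h := h1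
    rw [hmul] at h
    obtain ⟨c, hc⟩ := h9'
    have : c = 0 ∨ c = 1 ∨ c = 2 := by omega
    have hcop : Nat.Coprime (2 ^ k) 9 := Nat.Coprime.pow_left k (by norm_num)
    rcases this with rfl | rfl | rfl
    · exfalso; have := Nat.card_pos (α := C.ψ.ker); omega
    · rw [hc, mul_one] at h
      exact (hcop.dvd_of_dvd_mul_right h).trans (by norm_num)
    · rw [hc, show 8 * (9 * 2) = 16 * 9 by norm_num] at h
      exact hcop.dvd_of_dvd_mul_right h
  have := Nat.le_of_dvd (by norm_num) h16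
  omega

/-- Conjugates of `u` inside the subgroup of pairs. -/
theorem u_class' {g : G} (hg : g ∈ pairH hC) (hu : ∃ e, g = e * C.u * e⁻¹) :
    ∃ c ∈ pairH hC, g = c * C.u * c⁻¹ := by
  obtain ⟨c, hc, h | h⟩ := u_class hC hg hu
  · exact ⟨c, hc, h⟩
  obtain ⟨e, he⟩ := hu
  exfalso
  refine u_ne_conj_rs hC (c⁻¹ * e) ?_
  calc c⁻¹ * e * C.u * (c⁻¹ * e)⁻¹ = c⁻¹ * (e * C.u * e⁻¹) * c := by group
    _ = C.r * C.s := by rw [← he, h]; group

theorem tSub_norm {g : G} (hgr : Commute g C.r) (hgT : ∀ v ∈ tSub hC, g * v * g⁻¹ ∈ tSub hC) :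
    g ∈ tSub hC := by
  have huT : C.u ∈ tSub hC := ⟨u5, u5, rfl, r5_u5.1, r5_u5.1, u_eq C⟩
  obtain ⟨x, y, h, hx, hy, hd⟩ := hgT _ huT
  have hsq : C.pair (x * x) (y * y) = 1 := by
    rw [← pair_mul hC h h, ← hd]; exact conj_sq C.u_sq g
  obtain ⟨hx2, hy2⟩ := pair_eq_one hC (by rw [map_mul, map_mul, h]) hsq
  have hodd : Perm.sign x = -1 := by
    obtain ⟨c, hc, hcu⟩ := u_class' hC (g := g * C.u * g⁻¹) (hd ▸ pair_mem hC h) ⟨g, rfl⟩
    obtain ⟨x', y', h', rfl | rfl⟩ := hc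
    · rw [hd, u_eq, pair_conj hC h' rfl] at hcu
      rw [(pair_eq hC h (by simp [h']) hcu).1]; simp [r5_u5.2.2.2.2.2.2.2.1]
    · rw [hd, show C.pair x' y' * C.n * C.u * (C.pair x' y' * C.n)⁻¹ =
        C.pair x' y' * (C.n * C.u * C.n⁻¹) * (C.pair x' y')⁻¹ by group, C.n_inv, u_eq,
        pair_swap hC rfl, pair_conj hC h' rfl] at hcu
      rw [(pair_eq hC h (by simp [h']) hcu).1]; simp [r5_u5.2.2.2.2.2.2.2.1]
  obtain ⟨e, he⟩ := r5_odd x hx hodd hx2
  obtain ⟨f, hf⟩ := r5_odd y hy (h ▸ hodd) hy2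
  have hA : ∀ e : Bool, Perm.sign (if e then a5 else 1) = 1 ∧
      (if e then a5 else 1) * r5 = r5 * (if e then a5 else 1) := by
    intro e; cases e <;> decide +kernel
  set c0 := C.pair (if e then a5 else 1) (if f then a5 else 1)
  have hc0 : Perm.sign (if e then a5 else 1) = Perm.sign (if f then a5 else 1) := by
    rw [(hA e).1, (hA f).1]
  have hc0T : c0 ∈ tSub hC := ⟨_, _, hc0, (hA e).2, (hA f).2, rfl⟩
  have hc0r : Commute c0 C.r := (comm_r_iff hC hc0).mpr (hA f).2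
  set g1 := c0⁻¹ * g with hg1
  have hg1u : Commute g1 C.u := by
    refine commute_of_conj_eq ?_
    calc g1 * C.u * g1⁻¹ = c0⁻¹ * (g * C.u * g⁻¹) * c0 := by rw [hg1]; group
      _ = c0⁻¹ * (c0 * C.u * c0⁻¹) * c0 := by rw [hd, u_eq, pair_conj hC hc0 rfl, ← he, ← hf]
      _ = C.u := by group
  obtain ⟨a', y', hgl, hyu, hyr⟩ := C.cent_u_r hC.hII hC.hN hg1u (hc0r.inv_left.mul_left hgr)
  have hg1T : ∀ v ∈ tSub hC, g1 * v * g1⁻¹ ∈ tSub hC := fun v hv => by
    rw [show g1 * v * g1⁻¹ = c0⁻¹ * (g * v * g⁻¹) * c0 by rw [hg1]; group]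
    exact mul_mem (mul_mem (inv_mem hc0T) (hgT v hv)) hc0T
  have hsT : C.s ∈ tSub hC :=
    ⟨r5, 1, by rw [map_one, a5_facts.2.1], rfl, by simp, s_eq hC⟩
  have hyT : C.kH y' ∈ tSub hC := by
    refine ⟨eps y', y', sign_eps y', ?_, hyr, kH_eq C y'⟩
    rcases eps_cases y' with h | h <;> rw [h]
    exacts [by simp, r5_u5.1]
  obtain ⟨i, t, ht, hgt⟩ : ∃ i : Fin 3, ∃ t ∈ tSub hC, g1 = C.z ^ i.1 * t := by
    obtain ⟨i, rfl | rfl⟩ := three_split a'
    · refine ⟨i, C.kH y', hyT, ?_⟩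
      rw [hgl, ← map_pow, C.kH_apply, ← map_mul]
      exact congrArg C.ι (Prod.ext (by simp [dM]) (by simp [dM]))
    · refine ⟨i, C.s * C.kH y', mul_mem hsT hyT, ?_⟩
      rw [hgl, ← map_pow, C.kH_apply, ← map_mul, ← map_mul]
      exact congrArg C.ι (Prod.ext (by simp [dM]) (by simp [dM]))
  obtain rfl : i = 0 := by
    have haT : C.pair a5 1 ∈ tSub hC := ⟨a5, 1, by rw [map_one, a5_facts.2.2.1],
      (show a5 * r5 = r5 * a5 by decide +kernel), by simp, rfl⟩
    obtain ⟨x'', y'', h'', hx'', -, he''⟩ :=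
      hg1T _ (mul_mem (mul_mem (inv_mem ht) haT) ht)
    have e1 : g1 * (t⁻¹ * C.pair a5 1 * t) * g1⁻¹ =
        C.z ^ i.1 * C.pair a5 1 * (C.z ^ i.1)⁻¹ := by rw [hgt]; group
    rw [e1, z_eq, pair_pow hC (by rw [map_one, a5_facts.1]), one_pow,
      pair_conj hC (by rw [map_one, map_pow, a5_facts.1, one_pow])
        (by rw [map_one, a5_facts.2.2.1])] at he''
    have h3 := (pair_eq hC (by simp [a5_facts.2.2.1]) h'' he'').1
    rw [← h3] at hx''
    exact c5_move i hx''
  have : g1 ∈ tSub hC := by rw [hgt]; simpa using ht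
  simpa [hg1] using mul_mem hc0T this

theorem r_ne_conj_rs (e : G) : e * C.r * e⁻¹ ≠ C.r * C.s := by
  intro he
  classical
  have : Fact (Nat.Prime 2) := ⟨Nat.prime_two⟩
  set L := centralizer ({C.r} : Set G)
  have hTL : tSub hC ≤ L := by
    rintro _ ⟨x, y, h, -, hy, rfl⟩
    exact mem_centralizer_singleton_iff.mpr ((comm_r_iff hC h).mpr hy).eq
  have hT'L : ∀ g ∈ tExt hC, e⁻¹ * g * e ∈ L := fun g hg => by
    rw [mem_centralizer_singleton_iff]
    have h := commute_conj (show Commute g (C.r * C.s) from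
      mem_centralizer_singleton_iff.mp (tExt_le_rs hC hg)) e⁻¹
    rw [← he] at h
    simpa [mul_assoc] using h.eq
  have hT2 : IsPGroup 2 ((tSub hC).subgroupOf L) := fun g => ⟨3, Subtype.ext (Subtype.ext (by
    simpa using tSub_pow hC (g := ((g : L) : G)) (mem_subgroupOf.mp g.2)))⟩
  obtain ⟨P, hP⟩ := hT2.exists_le_sylow
  let f : tExt hC →* L :=
    ((MulAut.conj e⁻¹).toMonoidHom.comp (tExt hC).subtype).codRestrict L fun g => by
      change e⁻¹ * (g : G) * e⁻¹⁻¹ ∈ L
      rw [inv_inv]; exact hT'L g g.2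
  have hf : Function.Injective f := fun a b h =>
    Subtype.ext ((MulAut.conj e⁻¹).injective (congrArg (fun v : L => (v : G)) h))
  obtain ⟨Q, hQ⟩ := ((tExt_two hC).of_equiv (MonoidHom.ofInjective hf) :
    IsPGroup 2 f.range).exists_le_sylow
  have hcard : Nat.card ((tSub hC).subgroupOf L) < Nat.card (P : Subgroup L) := by
    rw [Nat.card_congr (Subgroup.subgroupOfEquivOfLe hTL).toEquiv,
      Nat.card_congr (Sylow.equiv P Q).toEquiv]
    refine (tSub_lt hC).trans_le ?_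
    rw [Nat.card_congr (MonoidHom.ofInjective hf).toEquiv]
    exact Subgroup.card_le_of_le hQ
  have hlt : ((tSub hC).subgroupOf L).subgroupOf (P : Subgroup L) < ⊤ := by
    refine lt_top_iff_ne_top.mpr fun e' => ?_
    have := Subgroup.subgroupOf_eq_top.mp e'
    exact absurd (Subgroup.card_le_of_le this) (not_le.mpr hcard)
  have : Group.IsNilpotent (P : Subgroup L) := P.2.isNilpotent
  have hnorm := Group.normalizerCondition_of_isNilpotent _ hlt
  obtain ⟨g, hgN, hgT⟩ := SetLike.exists_of_lt hnorm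
  apply hgT
  rw [mem_subgroupOf, mem_subgroupOf]
  refine tSub_norm hC (mem_centralizer_singleton_iff.mp ((g : L)).2) fun v hv => ?_
  have h := (mem_normalizer_iff.mp hgN ⟨⟨v, hTL hv⟩, hP (mem_subgroupOf.mpr hv)⟩).mp
    (mem_subgroupOf.mpr (mem_subgroupOf.mpr hv))
  simpa [mem_subgroupOf] using h

/-- Conjugates of `r` inside the subgroup of pairs lie in one factor. -/
theorem r_shape {g : G} (hg : g ∈ pairH hC) (hr : ∃ e, g = e * C.r * e⁻¹) :
    ∃ x, Perm.sign x = 1 ∧ x ≠ 1 ∧ (g = C.pair x 1 ∨ g = C.pair 1 x) := by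
  obtain ⟨c, hc, h | h⟩ := r_class hC hg hr
  · obtain ⟨x', y', h', rfl | rfl⟩ := hc
    · refine ⟨y' * r5 * y'⁻¹, by simp [a5_facts.2.1], ?_, Or.inr ?_⟩
      · exact fun e => a5_facts.2.2.2.2.2.2.2.2.2.2.1 (conj_eq_one_iff.mp e)
      · rw [h, r_eq hC, pair_conj hC h' (by rw [map_one, a5_facts.2.1]), mul_one, mul_inv_cancel]
    · refine ⟨x' * r5 * x'⁻¹, by simp [a5_facts.2.1], ?_, Or.inl ?_⟩
      · exact fun e => a5_facts.2.2.2.2.2.2.2.2.2.2.1 (conj_eq_one_iff.mp e)
      · rw [h, show C.pair x' y' * C.n * C.r * (C.pair x' y' * C.n)⁻¹ =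
            C.pair x' y' * (C.n * C.r * C.n⁻¹) * (C.pair x' y')⁻¹ by group, C.n_inv, r_eq hC,
          pair_swap hC (by rw [map_one, a5_facts.2.1]),
          pair_conj hC h' (by rw [map_one, a5_facts.2.1]), mul_one, mul_inv_cancel]
  · obtain ⟨e, he⟩ := hr
    exfalso
    refine r_ne_conj_rs hC (c⁻¹ * e) ?_
    calc c⁻¹ * e * C.r * (c⁻¹ * e)⁻¹ = c⁻¹ * (e * C.r * e⁻¹) * c := by group
      _ = C.r * C.s := by rw [← he, h]; group

theorem Cu_conj_le {x y : Perm (Fin 5)} (h : Perm.sign x = Perm.sign y) (hs : Perm.sign x = -1)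
    (hx : x * x = 1) (hy : y * y = 1) {g : G} (hg : Commute g (C.pair x y)) : g ∈ pairH hC := by
  obtain ⟨p, hp, rfl⟩ := invol_odd x hx hs
  obtain ⟨q, hq, rfl⟩ := invol_odd y hy (h ▸ hs)
  have hc := pair_mem hC (x := p) (y := q) (by rw [hp, hq])
  rw [← pair_conj hC (by rw [hp, hq]) rfl, ← u_eq] at hg
  have := Cu_le hC (g := (C.pair p q)⁻¹ * g * C.pair p q) (by
    have := commute_conj hg (C.pair p q)⁻¹
    simpa [mul_assoc] using this)
  simpa [mul_assoc] using mul_mem (mul_mem hc this) (inv_mem hc)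

theorem Cr_le : ∀ g, Commute g C.r → g ∈ pairH hC := by
  classical
  set L := centralizer ({C.r} : Set G) with hL
  have hmem : ∀ g, g ∈ L ↔ Commute g C.r := fun g => mem_centralizer_singleton_iff
  have hbL : C.b ∈ L := (hmem _).mpr (C.b_r hC.hII)
  have hrL : C.r ∈ L := (hmem _).mpr (Commute.refl _)
  have hbr : C.b * C.r = C.pair 1 (a5 * r5) := by
    rw [b_eq, r_eq hC, pair_mul hC (by rw [map_one, a5_facts.2.2.1])
      (by rw [map_one, a5_facts.2.1]), one_mul]
  have conjr : ∀ y, Perm.sign y = 1 → y * y = 1 → y ≠ 1 →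
      ∃ c, C.pair 1 y = c * C.r * c⁻¹ := by
    intro y hy hy2 hy1
    obtain ⟨k, hk, rfl⟩ := invol_even y hy2 hy1 hy
    refine ⟨C.pair 1 k, ?_⟩
    rw [r_eq hC, pair_conj hC (by rw [map_one, hk]) (by rw [map_one, a5_facts.2.1]), mul_one,
      inv_one, mul_one]
  have hb_u : C.u * (C.b * C.r) * C.u = C.b := by
    rw [b_eq, r_eq hC, pair_mul hC (by rw [map_one, a5_facts.2.2.1])
      (by rw [map_one, a5_facts.2.1]), one_mul, u_eq,
      pair_mul hC rfl (by rw [map_one, a5_facts.2.2.2.2.2.2.2.2.1]),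
      pair_mul hC (by simp [a5_facts.2.2.2.2.2.2.2.2.1]) rfl, mul_one, r5_u5.2.2.2.2.2.2.2.2]
    congr 1
    decide +kernel
  have hru : Commute C.u C.r := (C.r_u hC.hII).symm
  obtain ⟨W, hWn, hWodd, hW⟩ := exists_core (⟨C.b, hbL⟩ : L) ⟨C.r, hrL⟩ (Subtype.ext C.b_sq)
    (Subtype.ext C.r_sq) (fun g => Subtype.ext ((hmem g).mp g.2).eq)
    (fun e => by
      have h : C.kH a5 = C.kH r5 := (congrArg Subtype.val e).trans hC.hII
      exact absurd (C.kH_inj h) (by decide +kernel))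
    (fun e => by
      have h : C.kH a5 = C.kH 1 := (congrArg Subtype.val e).trans C.kH.map_one.symm
      exact absurd (C.kH_inj h) (by decide +kernel)) (by
    intro g hg
    set d : G := (g : G) * C.b * (g : G)⁻¹ with hd
    have hd2 : d * d = 1 := conj_sq C.b_sq _
    have hgr : Commute (g : G) C.r := (hmem _).mp g.2
    have hdr : Commute d C.r := by
      have := commute_conj (C.b_r hC.hII) (g : G)
      rwa [conj_eq_of_commute hgr] at this
    have hdr' : ∃ e, d = e * C.r * e⁻¹ := by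
      obtain ⟨c, hc⟩ := conjr a5 a5_facts.2.2.1 a5_facts.2.2.2.1 a5_facts.2.2.2.2.2.2.2.2.2.1
      refine ⟨(g : G) * c, ?_⟩
      rw [hd, b_eq, hc]; group
    rcases hg with hg | hg
    · have hg' : d * C.b * d * C.b = 1 := congrArg Subtype.val hg
      have hdb : Commute d C.b := by
        have := eq_inv_of_mul_eq_one_left hg'
        rw [inv_of_sq C.b_sq] at this
        have h' := congrArg (· * d) this
        simp only [mul_assoc, hd2, mul_one] at h'
        exact h'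
      obtain ⟨x, y, hx, hy, hxy⟩ := centVr hC d hdr hdb
      obtain ⟨hys, -, -, -⟩ := four_table y hy
      have hsxy : Perm.sign x = Perm.sign y := by rw [hx, hys]
      have hdr2 : ∃ e, d * C.r = e * C.r * e⁻¹ := by
        obtain ⟨c, hc⟩ := conjr (a5 * r5) a5_facts.2.2.2.2.2.2.2.2.1 (by decide +kernel)
          (by decide +kernel)
        refine ⟨(g : G) * c, ?_⟩
        calc d * C.r = (g : G) * C.b * (g : G)⁻¹ * ((g : G) * C.r * (g : G)⁻¹) := by
              rw [conj_eq_of_commute hgr]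
          _ = (g : G) * (C.b * C.r) * (g : G)⁻¹ := by group
          _ = _ := by rw [hbr, hc]; group
      have hy0 : x = 1 := by
        by_contra hx1
        obtain ⟨x1, hx1s, -, h1 | h1⟩ := r_shape hC (hxy ▸ pair_mem hC hsxy) hdr'
        · have hy1 : y = 1 := (pair_eq hC hsxy (by rw [map_one, hx1s]) (hxy.symm.trans h1)).2
          have hdrp : d * C.r = C.pair x r5 := by
            rw [hxy, r_eq hC, pair_mul hC hsxy (by rw [map_one, a5_facts.2.1]), mul_one, hy1,
              one_mul]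
          have hs' : Perm.sign x = Perm.sign r5 := by rw [hx, a5_facts.2.1]
          obtain ⟨x2, hx2s, -, h2 | h2⟩ := r_shape hC (hdrp ▸ pair_mem hC hs') hdr2
          · exact a5_facts.2.2.2.2.2.2.2.2.2.2.1
              (pair_eq hC hs' (by rw [map_one, hx2s]) (hdrp.symm.trans h2)).2
          · exact hx1 (pair_eq hC hs' (by rw [map_one, hx2s]) (hdrp.symm.trans h2)).1
        · exact hx1 (pair_eq hC hsxy (by rw [map_one, hx1s]) (hxy.symm.trans h1)).1
      subst hy0
      rcases hy with rfl | rfl | rfl | rfl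
      · exfalso
        rw [pair_one, hd, conj_eq_one_iff] at hxy
        have h : C.kH a5 = C.kH 1 := hxy.trans C.kH.map_one.symm
        exact absurd (C.kH_inj h) (by decide +kernel)
      · exfalso
        rw [← r_eq hC, hd] at hxy
        have h : C.kH a5 = C.kH r5 := by
          rw [← hC.hII]
          calc C.b = (g : G)⁻¹ * ((g : G) * C.b * (g : G)⁻¹) * g := by group
            _ = C.r := by rw [hxy, mul_assoc, ← hgr.eq, inv_mul_cancel_left]
        exact absurd (C.kH_inj h) (by decide +kernel)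
      · left
        refine Subtype.ext ?_
        change d = C.b
        rw [hxy, b_eq]
      · right
        refine Subtype.ext ?_
        change d = C.b * C.r
        rw [hxy, hbr]
    · exfalso
      have hg' : d * C.b * d * C.b = C.r := congrArg Subtype.val hg
      have hdb : d * C.b * d⁻¹ = C.b * C.r := by
        rw [inv_of_sq hd2, (C.b_r hC.hII).eq, ← hg', mul_assoc (d * C.b * d), C.b_sq, mul_one]
      obtain ⟨x, y, hx, hy, hxy⟩ := centVr hC (C.u * d) (hru.mul_left hdr) (commute_of_conj_eq (by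
        rw [show C.u * d * C.b * (C.u * d)⁻¹ = C.u * (d * C.b * d⁻¹) * C.u⁻¹ by group, hdb,
          inv_of_sq C.u_sq, hb_u]))
      have hsxy : Perm.sign x = Perm.sign y := by rw [hx, (four_table y hy).1]
      have hdp : d = C.pair (u5 * x) (u5 * y) := by
        rw [← pair_mul hC rfl hsxy, ← u_eq, ← hxy, ← mul_assoc, C.u_sq, one_mul]
      have hso : Perm.sign (u5 * x) = -1 := by
        rw [map_mul, hx, r5_u5.2.2.2.2.2.2.2.1, mul_one]
      have hs2 : Perm.sign (u5 * x) = Perm.sign (u5 * y) := by rw [map_mul, map_mul, hsxy]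
      obtain ⟨x1, hx1s, -, h1 | h1⟩ := r_shape hC (hdp ▸ pair_mem hC hs2) hdr'
      · rw [(pair_eq hC hs2 (by rw [map_one, hx1s]) (hdp.symm.trans h1)).1, hx1s] at hso
        exact absurd hso (by decide)
      · rw [(pair_eq hC hs2 (by rw [map_one, hx1s]) (hdp.symm.trans h1)).1, map_one] at hso
        exact absurd hso (by decide))
  set W' := W.map L.subtype
  have hW'odd : Odd (Nat.card W') := by
    rwa [← Nat.card_congr (equivMapOfInjective W _ L.subtype_injective).toEquiv]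
  have hW'n : ∀ g, Commute g C.r → ∀ x ∈ W', g * x * g⁻¹ ∈ W' := by
    rintro g hg _ ⟨x, hx, rfl⟩
    exact ⟨_, hWn.conj_mem x hx ⟨g, (hmem g).mpr hg⟩, rfl⟩
  have hW'r : ∀ x ∈ W', Commute x C.r := by
    rintro _ ⟨x, -, rfl⟩
    exact (hmem _).mp x.2
  -- odd elements of the pairs centralising `r`
  have hWH : ∀ v ∈ W', v ∈ pairH hC → v = 1 := by
    rintro v hv ⟨x, y, h, rfl | rfl⟩
    · have hy := (comm_r_iff hC h).mp (hW'r _ hv)
      have hoe : C.pair x y ^ Nat.card W' = 1 := by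
        have := Subgroup.orderOf_dvd_natCard _ hv
        exact orderOf_dvd_iff_pow_eq_one.mp this
      rw [pair_pow hC h] at hoe
      obtain ⟨-, hyp⟩ := pair_eq_one hC (by rw [map_pow, map_pow, h]) hoe
      have hy1 : y = 1 := by
        have h1 := orderOf_dvd_of_pow_eq_one hyp
        have h2 := orderOf_dvd_of_pow_eq_one (cent_r5_pow y hy)
        refine orderOf_eq_one_iff.mp (Nat.dvd_one.mp ?_)
        have hc : (Nat.card W').Coprime 8 := by
          rw [show (8 : ℕ) = 2 ^ 3 by norm_num]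
          exact (Nat.coprime_two_right.mpr hW'odd).pow_right 3
        exact hc ▸ Nat.dvd_gcd h1 h2
      subst hy1
      rw [map_one] at h
      let K : Subgroup (alternatingGroup (Fin 5)) :=
        W'.comap (C.fH.comp (alternatingGroup (Fin 5)).subtype)
      haveI : K.Normal := ⟨fun k hk q => by
        change C.fH ((q * k * q⁻¹ : alternatingGroup (Fin 5)) : Perm (Fin 5)) ∈ W'
        rw [Subgroup.coe_mul, Subgroup.coe_mul, Subgroup.coe_inv, map_mul, map_mul, map_inv]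
        exact hW'n _ (C.r_fH _).symm _ hk⟩
      have hfe : C.pair x 1 = C.fH x := by
        rw [fH_eq, eps_even h]
      rcases alt_five_bot_or_top K with hb | ht
      · have hk : (⟨x, h⟩ : alternatingGroup (Fin 5)) ∈ K := by
          change C.fH x ∈ W'
          rw [← hfe]; exact hv
        rw [hb, mem_bot] at hk
        rw [show x = 1 from congrArg Subtype.val hk, pair_one]
      · exfalso
        have ha : C.a ∈ W' := by
          have : (⟨a5, a5_facts.2.2.1⟩ : alternatingGroup (Fin 5)) ∈ K := ht ▸ mem_top _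
          exact this
        have h1 := eq_one_of_sq_odd hW'odd ha C.a_sq
        exact a5_facts.2.2.2.2.2.2.2.2.2.1 (C.fH_inj (h1.trans C.fH.map_one.symm))
    · exact absurd (hW'r _ hv) (swap_not_comm_r hC h)
  have hinv : ∀ x y : Perm (Fin 5), Perm.sign x = -1 → Perm.sign y = -1 → x * x = 1 → y * y = 1 →
      y * r5 = r5 * y → ∀ v ∈ W', C.pair x y * v * C.pair x y = v⁻¹ := by
    intro x y hx hy hx2 hy2 hyr
    have h : Perm.sign x = Perm.sign y := by rw [hx, hy]
    have hsq : C.pair x y * C.pair x y = 1 := by rw [pair_mul hC h h, hx2, hy2, pair_one]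
    refine inverted_of_fixfree W' hsq (fun v hv => ?_) fun v hv hc =>
      hWH v hv (Cu_conj_le hC h hx hx2 hy2 hc.symm)
    have := hW'n _ ((comm_r_iff hC h).mpr hyr) v hv
    rwa [inv_of_sq hsq] at this
  have hW1 : ∀ v ∈ W', v = 1 := fun v hv => hWH v hv (Cz_le hC (by
    have h1 : Perm.sign p5 = Perm.sign u5 := by rw [r5_u5.2.2.2.2.2.2.1, r5_u5.2.2.2.2.2.2.2.1]
    have h2 : Perm.sign (swap 1 2 : Perm (Fin 5)) = Perm.sign u5 := by
      rw [r5_u5.2.2.2.2.1, r5_u5.2.2.2.2.2.2.2.1]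
    have hprod : C.pair p5 u5 * C.pair (swap 1 2) u5 = C.z := by
      rw [pair_mul hC h1 h2, r5_u5.2.2.1, r5_u5.2.2.2.2.2.2.2.2, ← z_eq]
    have hs1 : C.pair p5 u5 * C.pair p5 u5 = 1 := by
      rw [pair_mul hC h1 h1, r5_u5.2.2.2.2.2.1, r5_u5.2.2.2.2.2.2.2.2, pair_one]
    have hs2 : C.pair (swap 1 2) u5 * C.pair (swap 1 2) u5 = 1 := by
      rw [pair_mul hC h2 h2, r5_u5.2.2.2.1, r5_u5.2.2.2.2.2.2.2.2, pair_one]
    rw [← hprod]
    exact (commute_mul_of_inverted hs1 hs2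
      (hinv p5 u5 r5_u5.2.2.2.2.2.2.1 r5_u5.2.2.2.2.2.2.2.1 r5_u5.2.2.2.2.2.1
        r5_u5.2.2.2.2.2.2.2.2 r5_u5.1)
      (hinv (swap 1 2) u5 r5_u5.2.2.2.2.1 r5_u5.2.2.2.2.2.2.2.1 r5_u5.2.2.2.1
        r5_u5.2.2.2.2.2.2.2.2 r5_u5.1) v hv).symm))
  have inVr : ∀ g, Commute g C.r → Commute g C.b → g ∈ pairH hC := by
    intro g h1 h2
    obtain ⟨x, y, hx, hy, rfl⟩ := centVr hC g h1 h2
    exact pair_mem hC (by rw [hx, (four_table y hy).1])
  intro g hg
  obtain ⟨x, hx, h⟩ := hW ⟨g, (hmem g).mpr hg⟩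
  have hx1 : (x : G) = 1 := hW1 _ ⟨x, hx, rfl⟩
  rcases h with h | h
  · have h' : (x : G) * g * C.b * ((x : G) * g)⁻¹ = C.b := congrArg Subtype.val h
    rw [hx1, one_mul] at h'
    exact inVr g hg (commute_of_conj_eq h')
  · have h' : (x : G) * g * C.b * ((x : G) * g)⁻¹ = C.b * C.r := congrArg Subtype.val h
    rw [hx1, one_mul] at h'
    have h2 := inVr (C.u * g) (hru.mul_left hg) (commute_of_conj_eq (by
      rw [show C.u * g * C.b * (C.u * g)⁻¹ = C.u * (g * C.b * g⁻¹) * C.u⁻¹ by group, h',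
        inv_of_sq C.u_sq, hb_u]))
    have := mul_mem (u_mem_pairH hC) h2
    rwa [← mul_assoc, C.u_sq, one_mul] at this

end Config

end CfsgLib.SymEight40
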