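import Cfsg.Agent.SymEight40.ProdPairs
import Cfsg.Agent.S3331
import Cfsg.Agent.Dickson.MaxPoly

/-!
The centraliser of a four-group in one factor is that four-group times the other factor.
-/

set_option autoImplicit false

open Equiv Subgroup

namespace CfsgLib.SymEight40

theorem four_table : ∀ y : Perm (Fin 5), (y = 1 ∨ y = r5 ∨ y = a5 ∨ y = a5 * r5) →
    Perm.sign y = 1 ∧ y * r5 = r5 * y ∧ y * a5 = a5 * y ∧
      ∀ y' : Perm (Fin 5), (y' = 1 ∨ y' = r5 ∨ y' = a5 ∨ y' = a5 * r5) →
        y⁻¹ * y' = 1 ∨ y⁻¹ * y' = r5 ∨ y⁻¹ * y' = a5 ∨ y⁻¹ * y' = a5 * r5 := by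
  decide +kernel

theorem c3_cube : ∀ i : Fin 3, (c3 ^ i.1) ^ 3 = 1 ∧ c5 ^ i.1 * c5 ^ (2 * i.1) = 1 := by
  decide +kernel

theorem alt_five_bot_or_top (K : Subgroup (alternatingGroup (Fin 5))) [K.Normal] : K = ⊥ ∨ K = ⊤ := by
  haveI : IsSimpleGroup (alternatingGroup (Fin 5)) := alternatingGroup.isSimpleGroup (by simp)
  exact IsSimpleGroup.eq_bot_or_eq_top_of_normal K inferInstance

theorem alt_five_not_comm : ∃ x y : alternatingGroup (Fin 5), x * y ≠ y * x :=
  ⟨⟨c5, a5_facts.1⟩, ⟨a5, a5_facts.2.2.1⟩, fun e => by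
    have := congrArg Subtype.val e
    exact absurd this (by decide +kernel)⟩

namespace Config

variable {G : Type*} [Group G] [Finite G] {C : Config G} (hC : C.ProdHyp)

include hC

/-- The centraliser of the four-group `⟨r, b⟩`. -/
theorem centVr : ∀ g, Commute g C.r → Commute g C.b →
    ∃ x y, Perm.sign x = 1 ∧ (y = 1 ∨ y = r5 ∨ y = a5 ∨ y = a5 * r5) ∧ g = C.pair x y := by
  classical
  set L := centralizer ({C.r} : Set G) ⊓ centralizer ({C.b} : Set G) with hL
  have hmem : ∀ g, g ∈ L ↔ Commute g C.r ∧ Commute g C.b := fun g => by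
    rw [hL, Subgroup.mem_inf, mem_centralizer_singleton_iff, mem_centralizer_singleton_iff]; rfl
  -- the four-group
  have hone : (1 : Perm (Fin 5)) = 1 ∨ (1 : Perm (Fin 5)) = r5 ∨ (1 : Perm (Fin 5)) = a5 ∨
    (1 : Perm (Fin 5)) = a5 * r5 := Or.inl rfl
  have hfour_mem : ∀ y, (y = 1 ∨ y = r5 ∨ y = a5 ∨ y = a5 * r5) → C.kH y ∈ L := fun y hy => by
    obtain ⟨-, h1, h2, -⟩ := four_table y hy
    rw [hmem, hC.hII]
    exact ⟨(show Commute y r5 from h1).map C.kH, (show Commute y a5 from h2).map C.kH⟩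
  let V : Subgroup L :=
    { carrier := {l | ∃ y, (y = 1 ∨ y = r5 ∨ y = a5 ∨ y = a5 * r5) ∧ (l : G) = C.kH y}
      one_mem' := ⟨1, hone, by rw [map_one]; rfl⟩
      mul_mem' := by
        rintro l l' ⟨y, hy, hl⟩ ⟨y', hy', hl'⟩
        refine ⟨y * y', ?_, by rw [Subgroup.coe_mul, hl, hl', map_mul]⟩
        have := (four_table y⁻¹ ?_).2.2.2 y' hy'
        · rwa [inv_inv] at this
        · simpa using (four_table y hy).2.2.2 1 hone
      inv_mem' := by
        rintro l ⟨y, hy, hl⟩
        exact ⟨y⁻¹, by simpa using (four_table y hy).2.2.2 1 hone,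
          by rw [Subgroup.coe_inv, hl, map_inv]⟩ }
  have hVmem : ∀ l : L, l ∈ V ↔ ∃ y, (y = 1 ∨ y = r5 ∨ y = a5 ∨ y = a5 * r5) ∧ (l : G) = C.kH y :=
    fun l => Iff.rfl
  haveI hVn : V.Normal := ⟨fun v hv l => by
    obtain ⟨y, hy, hl⟩ := hv
    refine ⟨y, hy, ?_⟩
    rw [Subgroup.coe_mul, Subgroup.coe_mul, Subgroup.coe_inv, hl]
    obtain ⟨h1, h2⟩ := (hmem _).mp l.2
    refine conj_eq_of_commute ?_
    rw [hC.hII] at h1
    rcases hy with rfl | rfl | rfl | rfl
    · rw [map_one]; exact Commute.one_right _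
    · exact h1
    · exact h2
    · rw [map_mul]; exact h2.mul_right h1⟩
  set π := QuotientGroup.mk' V with hπdef
  have hπ : ∀ l, π l = 1 ↔ l ∈ V := fun l => QuotientGroup.eq_one_iff l
  -- the alternating group inside
  have hA : ∀ x : alternatingGroup (Fin 5), C.fH (x : Perm (Fin 5)) ∈ L := fun x =>
    (hmem _).mpr ⟨(C.r_fH _).symm,
      C.commute_AB hC.hII hC.hN (Equiv.Perm.mem_alternatingGroup.mp x.2) a5_facts.2.2.1⟩
  let α : alternatingGroup (Fin 5) →* L ⧸ V :=
    π.comp ((C.fH.comp (alternatingGroup (Fin 5)).subtype).codRestrict L hA)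
  have hα : Function.Injective α := by
    rw [injective_iff_map_eq_one]
    intro x hx
    obtain ⟨y, hy, he⟩ := (hπ _).mp hx
    have he' : C.fH (x : Perm (Fin 5)) = C.kH y := he
    have hy1 := (four_table y hy).1
    have h1 : C.pair (x : Perm (Fin 5)) y⁻¹ = 1 := by
      unfold pair
      rw [eps_even (Equiv.Perm.mem_alternatingGroup.mp x.2), one_mul, map_inv, he', mul_inv_cancel]
    exact Subtype.ext (pair_eq_one hC
      (by rw [Perm.sign_inv, hy1, Equiv.Perm.mem_alternatingGroup.mp x.2]) h1).1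
  have hcardα : 60 ∣ Nat.card (L ⧸ V) := by
    have h := Subgroup.card_dvd_of_injective α hα
    rwa [nat_card_alternatingGroup, Nat.card_fin] at h
  -- the self centralising element
  have hzL : C.z ∈ L := (hmem _).mpr ⟨(C.r_z hC.hII).symm, C.b_z.symm⟩
  set zb := π ⟨C.z, hzL⟩ with hzb
  have hlift : ∀ (l : L) (v : G), (v = C.z ∨ v = C.z⁻¹) → (∀ hv : v ∈ L, π l * zb * (π l)⁻¹ = π ⟨v, hv⟩ →
      (l : G) * C.z * (l : G)⁻¹ = v) := by
    intro l v hv hvL h
    rw [hzb, ← map_inv, ← map_mul, ← map_mul, ← mul_inv_eq_one, ← map_inv, ← map_mul, hπ] at h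
    obtain ⟨y, hy, he⟩ := h
    simp only [Subgroup.coe_mul, Subgroup.coe_inv] at he
    have he' : (l : G) * C.z * (l : G)⁻¹ = C.kH y * v := mul_inv_eq_iff_eq_mul.mp he
    have hvc : Commute (C.kH y) v := by
      have hz : Commute (C.kH y) C.z :=
        (show Commute ((1, y) : M) (dM 1 0) from Prod.ext (by simp [dM]) (by simp [dM])).map C.ι
      rcases hv with rfl | rfl
      exacts [hz, hz.inv_right]
    have hz3 : C.z ^ 3 = 1 := by rw [pow_succ, pow_two]; exact C.D_cube (C.dM_mem_D 1 0)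
    have hv3 : v ^ 3 = 1 := by rcases hv with rfl | rfl <;> simp [inv_pow, hz3]
    have h3 : (C.kH y) ^ 3 = 1 := by
      have := congrArg (· ^ 3) he'
      simpa [conj_pow, hz3, hvc.mul_pow, hv3] using this.symm
    have hy3 : y ^ 3 = 1 := C.kH_inj (by rw [map_pow, h3, map_one])
    have hy1 : y = 1 := by
      rcases hy with rfl | rfl | rfl | rfl <;> first | rfl | exact absurd hy3 (by decide +kernel)
    rw [he', hy1, map_one, one_mul]
  have hzb3 : zb ^ 3 = 1 := by
    rw [hzb, ← map_pow, ← π.map_one]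
    refine congrArg π (Subtype.ext ?_)
    rw [Subgroup.coe_pow, pow_succ, pow_two]
    exact C.D_cube (C.dM_mem_D 1 0)
  have hzbne : zb ≠ 1 := by
    intro e
    obtain ⟨y, -, he⟩ := (hπ _).mp e
    rw [C.kH_apply] at he
    have h1 := congrArg Prod.fst (C.inj he)
    exact absurd h1 (show (dM 1 0 : M).1 ≠ 1 by decide +kernel)
  have hX : Nat.card (zpowers zb) = 3 := by
    have : Fact (Nat.Prime 3) := ⟨Nat.prime_three⟩
    rw [Nat.card_zpowers, orderOf_eq_prime hzb3 hzbne]
  have hCX : centralizer (zpowers zb : Set (L ⧸ V)) = zpowers zb := by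
    refine le_antisymm (fun q hq => ?_) fun q hq => ?_
    · obtain ⟨l, rfl⟩ := QuotientGroup.mk'_surjective V q
      have h := hlift l C.z (Or.inl rfl) hzL (by
        rw [mul_inv_eq_iff_eq_mul]
        exact (mem_centralizer_iff.mp hq zb (mem_zpowers _)).symm)
      obtain ⟨i, y, hy⟩ := C.cent_z (commute_of_conj_eq h)
      have hyc : y * r5 = r5 * y ∧ y * a5 = a5 * y := by
        obtain ⟨h1, h2⟩ := (hmem _).mp l.2
        rw [hC.hII, hy] at h1
        rw [hy] at h2
        constructor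
        · exact congrArg Prod.snd (C.inj (show C.ι ((c3 ^ i.1, y) * (1, r5)) =
            C.ι ((1, r5) * (c3 ^ i.1, y)) by rw [map_mul, map_mul]; exact h1.eq))
        · exact congrArg Prod.snd (C.inj (show C.ι ((c3 ^ i.1, y) * (1, a5)) =
            C.ι ((1, a5) * (c3 ^ i.1, y)) by rw [map_mul, map_mul]; exact h2.eq))
      obtain ⟨-, hy4⟩ := cent_four y hyc.1 hyc.2
      have hl : π l = zb ^ i.1 := by
        rw [hzb, ← map_pow, ← mul_inv_eq_one, ← map_inv, ← map_mul, hπ]
        refine ⟨y, hy4, ?_⟩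
        simp only [Subgroup.coe_mul, Subgroup.coe_inv, Subgroup.coe_pow, hy, C.kH_apply]
        rw [← map_pow, ← map_inv, ← map_mul]
        congr 1
        exact Prod.ext (by simp [dM]) (by simp [dM])
      rw [hl]
      exact pow_mem (mem_zpowers _) _
    · rw [mem_centralizer_iff]
      intro v hv
      obtain ⟨i, rfl⟩ := mem_zpowers_iff.mp hv
      obtain ⟨j, rfl⟩ := mem_zpowers_iff.mp hq
      exact ((Commute.refl zb).zpow_zpow i j).eq
  rcases Cfsg.Agent.S3331.result (zpowers zb) hX hCX with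
    ⟨N, hN, -, hco, hquot⟩ | ⟨N, hN, hab, hexp, ⟨e⟩⟩ | ⟨⟨e⟩⟩
  · exfalso
    haveI := hN
    rcases alt_five_bot_or_top (N.comap α) with hb | ht
    · have hinj : Function.Injective ((QuotientGroup.mk' N).comp α) := by
        rw [injective_iff_map_eq_one]
        intro x hx
        have : x ∈ N.comap α := (QuotientGroup.eq_one_iff (α x)).mp hx
        rwa [hb, mem_bot] at this
      have h := Nat.card_le_card_of_injective _ hinj
      rw [nat_card_alternatingGroup, Nat.card_fin] at h
      rcases hquot with hq | ⟨⟨f⟩⟩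
      · rw [hq] at h
        revert h; decide
      · rw [Nat.card_congr f.toEquiv, Nat.card_perm, Nat.card_fin] at h
        revert h; decide
    · have h3 : α ⟨c5, a5_facts.1⟩ ∈ N := by
        have : (⟨c5, a5_facts.1⟩ : alternatingGroup (Fin 5)) ∈ N.comap α := ht ▸ mem_top _
        exact this
      have hd := Subgroup.orderOf_dvd_natCard _ h3
      have ho : orderOf (α ⟨c5, a5_facts.1⟩) = 3 := by
        have : Fact (Nat.Prime 3) := ⟨Nat.prime_three⟩
        refine orderOf_eq_prime ?_ fun e => ?_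
        · rw [← map_pow, ← α.map_one]; exact congrArg α (Subtype.ext (by decide +kernel))
        · exact absurd (congrArg Subtype.val (hα (e.trans α.map_one.symm))) (by decide +kernel)
      rw [ho] at hd
      exact absurd (Nat.eq_one_of_dvd_coprimes hco hd dvd_rfl) (by decide)
  · haveI := hN
    have trivial_of : ∀ M : Subgroup (L ⧸ V), M.Normal →
        (∀ x ∈ M, ∀ y ∈ M, x * y = y * x) → ∀ x : alternatingGroup (Fin 5), α x ∈ M → x = 1 := by
      intro M hM hMc x hx
      haveI := hM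
      rcases alt_five_bot_or_top (M.comap α) with hb | ht
      · have : x ∈ M.comap α := hx
        rwa [hb, mem_bot] at this
      · exfalso
        obtain ⟨p, q, hpq⟩ := alt_five_not_comm
        refine hpq (hα ?_)
        rw [map_mul, map_mul]
        exact hMc _ (by rw [← mem_comap, ht]; exact mem_top _) _
          (by rw [← mem_comap, ht]; exact mem_top _)
    have hNc : ∀ x ∈ N, ∀ y ∈ N, x * y = y * x := fun x hx y hy =>
      congrArg Subtype.val (hab.is_comm.comm (⟨x, hx⟩ : N) ⟨y, hy⟩)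
    have hbij : Function.Bijective ((QuotientGroup.mk' N).comp α) := by
      refine (Nat.bijective_iff_injective_and_card _).mpr ⟨?_, Nat.card_congr e.symm.toEquiv⟩
      rw [injective_iff_map_eq_one]
      intro x hx
      exact trivial_of N hN hNc x ((QuotientGroup.eq_one_iff (α x)).mp hx)
    -- the action of `u`
    have hru : Commute C.r C.u := C.r_u hC.hII
    have hubu : C.u * C.b * C.u = C.r * C.b := by
      have h := C.b_u hC.hII
      calc C.u * C.b * C.u = C.b * (C.b * C.u * C.b) * C.u := by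
            simp [mul_assoc, ← mul_assoc C.b C.b, C.b_sq]
        _ = C.b * C.r * (C.u * C.u) := by rw [h]; group
        _ = C.r * C.b := by rw [C.u_sq, mul_one, (C.b_r hC.hII).eq]
    have hu_inv : C.u⁻¹ = C.u := inv_of_sq C.u_sq
    have hconjL : ∀ l : L, C.u * (l : G) * C.u⁻¹ ∈ L := fun l => by
      obtain ⟨h1, h2⟩ := (hmem _).mp l.2
      refine (hmem _).mpr ⟨?_, ?_⟩
      · have := commute_conj h1 C.u
        rwa [conj_eq_of_commute hru.symm] at this
      · have h3 := commute_conj (h1.mul_right h2) C.u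
        rwa [show C.u * (C.r * C.b) * C.u⁻¹ = C.b by
          rw [hu_inv, ← hubu]; simp [mul_assoc, C.u_sq, ← mul_assoc C.u C.u]] at h3
    let φ : L →* L := ((MulAut.conj C.u).toMonoidHom.comp L.subtype).codRestrict L hconjL
    have hφV : V ≤ V.comap φ := by
      rintro l ⟨y, hy, hl⟩
      refine ⟨u5 * y * u5, ?_, ?_⟩
      · rcases hy with rfl | rfl | rfl | rfl <;> decide +kernel
      · change C.u * (l : G) * C.u⁻¹ = _
        rw [hl, hu_inv, ← C.kH_u5, map_mul, map_mul]
    let σ : L ⧸ V →* L ⧸ V := QuotientGroup.map V V φ hφV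
    have hσπ : ∀ l, σ (π l) = π (φ l) := fun l => rfl
    have hσσ : ∀ q, σ (σ q) = q := fun q => by
      obtain ⟨l, rfl⟩ := QuotientGroup.mk'_surjective V q
      rw [hσπ, hσπ]
      refine congrArg π (Subtype.ext ?_)
      change C.u * (C.u * (l : G) * C.u⁻¹) * C.u⁻¹ = l
      rw [hu_inv]; simp [mul_assoc, C.u_sq, ← mul_assoc C.u C.u]
    have hσN : ∀ q ∈ N, σ q ∈ N := by
      intro q hq
      set f := (QuotientGroup.mk' N) with hf
      haveI hM : (N.map σ).Normal := hN.map σ fun q => ⟨σ q, hσσ q⟩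
      obtain ⟨x, hx⟩ := hbij.2 (f (σ q))
      have : x = 1 := by
        haveI : ((N.map σ).map f).Normal := hM.map f (QuotientGroup.mk'_surjective N)
        rcases alt_five_bot_or_top (((N.map σ).map f).comap (f.comp α)) with hb | ht
        · have : x ∈ ((N.map σ).map f).comap (f.comp α) := ⟨σ q, ⟨q, hq, rfl⟩, hx.symm⟩
          rwa [hb, mem_bot] at this
        · exfalso
          obtain ⟨p, p', hpq⟩ := alt_five_not_comm
          refine hpq (hbij.1 ?_)
          obtain ⟨_, ⟨t, ht1, rfl⟩, ht2⟩ : p ∈ ((N.map σ).map f).comap (f.comp α) := ht ▸ mem_top _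
          obtain ⟨_, ⟨t', ht1', rfl⟩, ht2'⟩ : p' ∈ ((N.map σ).map f).comap (f.comp α) := ht ▸ mem_top _
          rw [map_mul, map_mul, ← ht2, ← ht2', ← map_mul, ← map_mul, ← map_mul, ← map_mul,
            hNc t ht1 t' ht1']
      rw [this, map_one] at hx
      exact (QuotientGroup.eq_one_iff _).mp hx.symm
    -- fixed points are trivial
    have hfix : ∀ q ∈ N, σ q = q → q = 1 := by
      intro q hq hqf
      obtain ⟨l, rfl⟩ := QuotientGroup.mk'_surjective V q
      obtain ⟨y, hy, hl⟩ := (hπ _).mp (show π (φ l * l⁻¹) = 1 by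
        rw [map_mul, map_inv, ← hσπ, hqf, mul_inv_cancel])
      have hl' : C.u * (l : G) * C.u = C.kH y * l := by
        have h : C.u * (l : G) * C.u⁻¹ * (l : G)⁻¹ = C.kH y := hl
        rw [← h, hu_inv]; group
      obtain ⟨l', hl'u, hπl⟩ : ∃ l' : L, Commute (l' : G) C.u ∧ π l' = π l := by
        have h2 : C.u * C.kH y * C.u * C.kH y = 1 := by
          have := congrArg (fun v => C.u * v * C.u) hl'
          simp only [mul_assoc, C.u_sq, mul_one] at this
          rw [← mul_assoc C.u C.u, C.u_sq, one_mul] at this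
          have e : C.u * (C.kH y * ((l : G) * C.u)) = C.u * C.kH y * C.u * C.kH y * l := by
            calc C.u * (C.kH y * ((l : G) * C.u)) = C.u * C.kH y * C.u * (C.u * (l : G) * C.u) := by
                  simp [mul_assoc, C.u_sq, ← mul_assoc C.u C.u]
              _ = _ := by rw [hl']; group
          rw [e] at this
          exact mul_eq_right.mp this.symm
        have hyy : u5 * y * u5 * y = 1 := C.kH_inj (by
          rw [map_mul, map_mul, map_mul, C.kH_u5, h2, map_one])
        rcases hy with rfl | rfl | rfl | rfl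
        · refine ⟨l, ?_, rfl⟩
          rw [map_one, one_mul] at hl'
          refine (commute_of_conj_eq ?_).symm
          rw [hu_inv]; exact hl'
        · refine ⟨⟨C.b, by simpa using hfour_mem a5 (Or.inr (Or.inr (Or.inl rfl)))⟩ * l, ?_, ?_⟩
          · refine (commute_of_conj_eq ?_).symm
            rw [hu_inv, Subgroup.coe_mul]
            change C.u * (C.b * (l : G)) * C.u = C.b * l
            calc C.u * (C.b * (l : G)) * C.u = C.u * C.b * C.u * (C.u * (l : G) * C.u) := by
                  simp [mul_assoc, ← mul_assoc C.u C.u, C.u_sq]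
              _ = C.b * C.r * (C.r * l) := by
                rw [hubu, hl', ← hC.hII, (C.b_r hC.hII).eq]
              _ = _ := by rw [mul_assoc C.b C.r, ← mul_assoc C.r C.r, C.r_sq, one_mul]
          · have h1 : π (⟨C.b, by simpa using hfour_mem a5 (Or.inr (Or.inr (Or.inl rfl)))⟩ : L) = 1 :=
              (hπ _).mpr ⟨a5, Or.inr (Or.inr (Or.inl rfl)), rfl⟩
            rw [map_mul, h1, one_mul]
        · exact absurd hyy (by decide +kernel)
        · exact absurd hyy (by decide +kernel)
      obtain ⟨h1, h2⟩ := (hmem _).mp l'.2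
      obtain ⟨a', y', hgl, hu5, hr5⟩ := C.cent_u_r hC.hII hC.hN hl'u h1
      have hya : y' * a5 = a5 * y' :=
        congrArg Prod.snd (C.inj (show C.ι ((a', y') * (1, a5)) = C.ι ((1, a5) * (a', y')) by
          rw [map_mul, map_mul, ← hgl]; exact h2.eq))
      have hy4 := (cent_four y' hr5 hya).2
      obtain ⟨x, hx⟩ : ∃ x : alternatingGroup (Fin 5), C.fH (x : Perm (Fin 5)) = C.ι (a', 1) := by
        obtain ⟨i, rfl | rfl⟩ := three_split a'
        · refine ⟨⟨c5 ^ i.1, by
            rw [Equiv.Perm.mem_alternatingGroup, map_pow, a5_facts.1, one_pow]⟩, ?_⟩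
          rw [map_pow, C.fH_c5, ← map_pow]
          exact congrArg C.ι (Prod.ext (by simp [dM]) (by simp [dM]))
        · refine ⟨⟨c5 ^ i.1 * r5, by
            rw [Equiv.Perm.mem_alternatingGroup, map_mul, map_pow, a5_facts.1, one_pow, one_mul,
              a5_facts.2.1]⟩, ?_⟩
          rw [map_mul, map_pow, C.fH_c5, C.fH_r5 hC.hII, ← map_pow, ← map_mul]
          exact congrArg C.ι (Prod.ext (by simp [dM]) (by simp [dM]))
      have hqα : π l = α x := by
        rw [← hπl]
        change π l' = π ⟨C.fH (x : Perm (Fin 5)), hA x⟩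
        rw [← mul_inv_eq_one, ← map_inv, ← map_mul, hπ]
        refine ⟨y', hy4, ?_⟩
        change (l' : G) * (C.fH (x : Perm (Fin 5)))⁻¹ = C.kH y'
        rw [hgl, hx, ← map_inv, ← map_mul, C.kH_apply]
        congr 1
        exact Prod.ext (by simp) (by simp)
      rw [hqα, trivial_of N hN hNc x (hqα ▸ hq), map_one]
    have hN1 : N = ⊥ := by
      rw [Subgroup.eq_bot_iff_forall]
      intro q hq
      have h2 : ∀ v ∈ N, v * v = 1 := fun v hv => by rw [← pow_two]; exact hexp v hv
      have hs := hfix (q * σ q) (mul_mem hq (hσN q hq)) (by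
        rw [map_mul, hσσ]; exact hNc _ (hσN q hq) _ hq)
      refine hfix q hq ?_
      have h := eq_inv_of_mul_eq_one_right hs
      rw [inv_of_sq (h2 q hq)] at h
      exact h
    intro g hg1 hg2
    obtain ⟨x, hx⟩ := hbij.2 (QuotientGroup.mk' N (π ⟨g, (hmem g).mpr ⟨hg1, hg2⟩⟩))
    have hm : (α x)⁻¹ * π ⟨g, (hmem g).mpr ⟨hg1, hg2⟩⟩ ∈ N := QuotientGroup.eq.mp hx
    rw [hN1, mem_bot, inv_mul_eq_one] at hm
    have hv : π ((⟨C.fH (x : Perm (Fin 5)), hA x⟩ : L)⁻¹ * ⟨g, (hmem g).mpr ⟨hg1, hg2⟩⟩) = 1 := by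
      rw [map_mul, map_inv, inv_mul_eq_one]; exact hm
    obtain ⟨y, hy, he⟩ := (hπ _).mp hv
    refine ⟨x, y, Equiv.Perm.mem_alternatingGroup.mp x.2, hy, ?_⟩
    simp only [Subgroup.coe_mul, Subgroup.coe_inv] at he
    unfold pair
    rw [eps_even (Equiv.Perm.mem_alternatingGroup.mp x.2), one_mul, ← he, mul_inv_cancel_left]
  · exfalso
    haveI : Fact (Nat.Prime 7) := ⟨by norm_num⟩
    have h := CfsgLib.Dickson.psl_card_mul_two (F := ZMod 7) (by rw [ZMod.card]; decide)
    rw [ZMod.card] at h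
    rw [Nat.card_congr e.toEquiv] at hcardα
    omega

end Config

end CfsgLib.SymEight40
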