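import Cfsg.Agent.SymEight40.CentU
import Cfsg.Agent.SymEight40.SixTable
import Cfsg.Agent.Perm.CoxeterA

/-!
The first type of configuration: a homomorphism from the symmetric group of degree eight.
-/

set_option autoImplicit false

open Equiv Subgroup

namespace CfsgLib.SymEight40

theorem six_table (a b c d t : Perm (Fin 6)) (ha : a * a = 1) (ha1 : a ≠ 1)
    (hb : b * b = 1) (hb1 : b ≠ 1) (hc : c * c = 1) (hc1 : c ≠ 1) (hd : d * d = 1) (hd1 : d ≠ 1)
    (ht : t * t = 1) (ht1 : t ≠ 1) (htd : t ≠ d)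
    (hab : a * b * a = b * a * b) (hac : c * a = a * c) (hbc : c * b * c = b * c * b)
    (had : d * a = a * d) (hbd : d * b = b * d) (hcd : d * c * d = c * d * c)
    (hta : t * a = a * t) (htb : t * b = b * t) (htd' : d * t * d = t * d * t) :
    c * t = t * c ∨ c * (d * t * d) = d * t * d * c := by
  obtain ⟨j, hj⟩ := invList6_class a (mem_invList6 a ha ha1)
  obtain ⟨g, hg⟩ := isConj_iff.mp (Equiv.Perm.isConj_iff_cycleType_eq.mpr hj)
  set φ : Perm (Fin 6) ≃* Perm (Fin 6) := MulAut.conj g with hφ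
  have hga : φ a = rep6 j := hg
  have hm : ∀ x, x * x = 1 → x ≠ 1 → φ x ∈ invList6 := fun x h h1 =>
    mem_invList6 _ (by rw [← map_mul, h, map_one]) (by rwa [ne_eq, MulEquiv.map_eq_one_iff])
  have key := six_rep_table j (φ b) (hm b hb hb1) (by rw [← hga, ← map_mul, ← map_mul, hab, map_mul, map_mul])
    (φ c) (hm c hc hc1) (by rw [← hga, ← map_mul, hac, map_mul])
    (by rw [← map_mul, ← map_mul, hbc, map_mul, map_mul])
    (φ d) (hm d hd hd1) (by rw [← hga, ← map_mul, had, map_mul]) (by rw [← map_mul, hbd, map_mul])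
    (by rw [← map_mul, ← map_mul, hcd, map_mul, map_mul])
    (φ t) (hm t ht ht1) (φ.injective.ne htd) (by rw [← hga, ← map_mul, hta, map_mul])
    (by rw [← map_mul, htb, map_mul]) (by rw [← map_mul, ← map_mul, htd', map_mul, map_mul])
  simp only [← map_mul] at key
  exact key.imp (fun h => φ.injective h) (fun h => φ.injective h)

/-- A homomorphism from the symmetric group of degree eight not killing an even element is injective. -/
theorem injective_of_ne {G : Type*} [Group G] (Θ : Perm (Fin 8) →* G) (a : Perm (Fin 8))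
    (ha : Perm.sign a = 1) (hne : Θ a ≠ 1) : Function.Injective Θ := by
  rw [injective_iff_map_eq_one]
  intro k hk
  haveI : IsSimpleGroup (alternatingGroup (Fin 8)) := alternatingGroup.isSimpleGroup (by simp)
  have hA : Θ.ker.subgroupOf (alternatingGroup (Fin 8)) = ⊥ := by
    refine (IsSimpleGroup.eq_bot_or_eq_top_of_normal _ inferInstance).resolve_right fun h => ?_
    have hm : (⟨a, ha⟩ : alternatingGroup (Fin 8)) ∈ Θ.ker.subgroupOf (alternatingGroup (Fin 8)) :=
      h ▸ mem_top _
    exact hne (mem_subgroupOf.mp hm)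
  have hc : ∀ g, g * k = k * g := by
    intro g
    have hmem : g * k * g⁻¹ * k⁻¹ ∈ alternatingGroup (Fin 8) := by
      rw [Equiv.Perm.mem_alternatingGroup, map_mul, map_mul, map_mul, Perm.sign_inv, Perm.sign_inv,
        mul_comm (Perm.sign g), mul_assoc (Perm.sign k), Int.units_mul_self, mul_one,
        Int.units_mul_self]
    have h1 : (⟨_, hmem⟩ : alternatingGroup (Fin 8)) ∈ Θ.ker.subgroupOf (alternatingGroup (Fin 8)) := by
      rw [mem_subgroupOf, MonoidHom.mem_ker]
      simp only [map_mul, map_inv, hk]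
      group
    rw [hA, mem_bot] at h1
    exact mul_inv_eq_iff_eq_mul.mp (mul_inv_eq_one.mp (congrArg Subtype.val h1))
  ext x
  by_contra hne'
  have hne' : k x ≠ x := fun e => hne' (by rw [e]; rfl)
  obtain ⟨y, hy1, hy2⟩ : ∃ y : Fin 8, y ≠ x ∧ y ≠ k x := by
    have : ∀ p q : Fin 8, ∃ y : Fin 8, y ≠ p ∧ y ≠ q := by decide
    exact this x (k x)
  have h := DFunLike.congr_fun (hc (swap y (k x))) x
  rw [Perm.mul_apply, Perm.mul_apply, swap_apply_right,
    swap_apply_of_ne_of_ne hy1.symm hne'.symm] at h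
  exact hy2 h

theorem center_five : ∀ x : Perm (Fin 5), x * swap 0 1 = swap 0 1 * x →
    x * (swap 0 1 * swap 1 2 * swap 2 3 * swap 3 4) = swap 0 1 * swap 1 2 * swap 2 3 * swap 3 4 * x →
    x = 1 := by decide +kernel

theorem f5_table : (swap 1 2 : Perm (Fin 5)) = c5 * p5 * c5⁻¹ ∧
    (swap 0 3 * swap 1 4 : Perm (Fin 5)) * p5 * (swap 0 3 * swap 1 4)⁻¹ = u5 ∧
    c5 * (swap 1 2 * swap 2 3) ≠ swap 1 2 * swap 2 3 * c5 ∧
    (swap 2 4 : Perm (Fin 5)) = u5 * swap 2 3 * u5 ∧
    (∀ m : Fin 5, m = 3 ∨ m = 4 → Perm.sign (p5 * swap 2 m) = 1 ∧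
      ∃ b : Perm (Fin 5), b * u5 * b⁻¹ = swap 2 m) := by
  decide +kernel

namespace Config

variable {G : Type*} [Group G] (C : Config G)

theorem fH_u5 : C.fH u5 = C.u := by rw [C.fH_apply]; exact C.n_u

theorem fH_c5 : C.fH c5 = C.z := by
  rw [C.fH_apply]
  refine Eq.trans ?_ C.n_w
  congr 3

theorem kH_u5 : C.kH u5 = C.u := rfl

theorem kH_commute (a : Perm (Fin 3)) (x : Perm (Fin 5)) : Commute (C.ι (a, 1)) (C.kH x) :=
  (show Commute ((a, 1) : M) (1, x) from Prod.ext (by simp) (by simp)).map C.ι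

theorem r_fH (x : Perm (Fin 5)) : Commute C.r (C.fH x) := by
  have := commute_conj (C.kH_commute (swap 0 1) x) C.n
  rw [C.n_inv] at this
  rwa [C.fH_apply, ← C.kH_apply]

theorem fH_ne_r (x : Perm (Fin 5)) : C.fH x ≠ C.r := by
  intro h
  have hc : ∀ y, x * y = y * x := fun y => C.fH_inj (by
    rw [map_mul, map_mul, h]; exact (C.r_fH y).eq)
  have hx : x = 1 := center_five x (hc _) (hc _)
  rw [hx, map_one] at h
  have hs : C.s = 1 := by
    rw [← C.n_conj C.s, show C.n * C.s * C.n = 1 from h.symm, mul_one, C.n_sq]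
  exact absurd (C.inj (hs.trans C.ι.map_one.symm)) (by decide +kernel)

variable [Finite G]

theorem fH_p5 (hI : C.r = C.kH p5) : C.fH p5 = C.s := by
  rw [C.fH_apply, ← C.kH_apply, ← hI]; exact C.n_conj C.s

theorem r_cover (hI : C.r = C.kH p5) : ∃ π : centralizer ({C.r} : Set G) →* Perm (Fin 6),
    Function.Surjective π ∧ ∀ g, π g = 1 ↔ (g : G) = 1 ∨ (g : G) = C.r := by
  set c := C.kH (swap 0 3 * swap 1 4) with hc
  have hcr : c * C.r * c⁻¹ = C.u := by
    rw [hI, hc, ← map_inv, ← map_mul, ← map_mul, f5_table.2.1]; rfl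
  have hmap : ∀ g, Commute g C.r → Commute (c * g * c⁻¹) C.u := fun g hg => hcr ▸ commute_conj hg c
  rcases C.centU_cases with hN | ⟨π, hπ, hker⟩
  · exfalso
    have h3 : ∀ x : Perm (Fin 5), x * x * x = 1 → c * C.fH x * c⁻¹ ∈ C.D := by
      intro x hx
      refine C.cube_mem_D (hN _ (hmap _ (C.r_fH x).symm)) ?_
      calc _ = c * (C.fH x * C.fH x * C.fH x) * c⁻¹ := by group
        _ = 1 := by rw [← map_mul, ← map_mul, hx, map_one]; group
    have h := C.D_comm (h3 c5 (by decide +kernel)) (h3 (swap 1 2 * swap 2 3) (by decide +kernel))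
    rw [Commute.conj_iff] at h
    exact f5_table.2.2.1 (C.fH_inj ((map_mul C.fH _ _).trans (h.eq.trans (map_mul C.fH _ _).symm)))
  · let φ : centralizer ({C.r} : Set G) →* centralizer ({C.u} : Set G) :=
      ((MulAut.conj c).toMonoidHom.comp (centralizer ({C.r} : Set G)).subtype).codRestrict _
        fun g => mem_centralizer_singleton_iff.mpr (hmap g (mem_centralizer_singleton_iff.mp g.2)).eq
    refine ⟨π.comp φ, hπ.comp fun y => ?_, fun g => ?_⟩
    · refine ⟨⟨c⁻¹ * y * c, mem_centralizer_singleton_iff.mpr ?_⟩, Subtype.ext ?_⟩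
      · have h := commute_conj (show Commute (y : G) C.u from mem_centralizer_singleton_iff.mp y.2) c⁻¹
        rw [inv_inv, show c⁻¹ * C.u * c = C.r by rw [← hcr]; group] at h
        exact h.eq
      · change c * (c⁻¹ * y * c) * c⁻¹ = (y : G)
        group
    · rw [MonoidHom.comp_apply, hker]
      change c * g * c⁻¹ = 1 ∨ c * g * c⁻¹ = C.u ↔ _
      rw [conj_eq_one_iff, ← hcr, mul_left_inj, mul_right_inj]

theorem cross (hI : C.r = C.kH p5) :
    ∃ m : Fin 5, (m = 3 ∨ m = 4) ∧ Commute (C.fH (swap 2 3)) (C.kH (swap 2 m)) := by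
  obtain ⟨π, -, hπ⟩ := C.r_cover hI
  have hf : ∀ x, C.fH x ∈ centralizer ({C.r} : Set G) := fun x =>
    mem_centralizer_singleton_iff.mpr (C.r_fH x).symm.eq
  have hk : ∀ x, x * p5 = p5 * x → C.kH x ∈ centralizer ({C.r} : Set G) := fun x hx =>
    mem_centralizer_singleton_iff.mpr (by rw [hI, ← map_mul, ← map_mul, hx])
  let F : Perm (Fin 5) →* Perm (Fin 6) := π.comp (C.fH.codRestrict _ hf)
  have hF : ∀ x, F x = 1 → x = 1 := fun x h => by
    rcases (hπ _).mp h with h' | h'
    · exact C.fH_inj (h'.trans C.fH.map_one.symm)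
    · exact absurd h' (C.fH_ne_r x)
  set T : centralizer ({C.r} : Set G) := ⟨_, hk (swap 2 3) (by decide +kernel)⟩ with hT
  set U : centralizer ({C.r} : Set G) := ⟨_, hf u5⟩ with hU
  have hcomm : ∀ x, Commute (C.fH x) (C.kH (swap 2 3)) →
      π T * F x = F x * π T := fun x hx => by
    rw [MonoidHom.comp_apply, ← map_mul, ← map_mul]
    exact congrArg π (Subtype.ext hx.eq.symm)
  have hFF : ∀ x y : Perm (Fin 5), x = y → F x = F y := fun x y h => by rw [h]
  have key := six_table (F p5) (F (swap 1 2)) (F (swap 2 3)) (F u5) (π T)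
    (by rw [← map_mul, ← F.map_one]; exact hFF _ _ (by decide +kernel))
    (fun h => absurd (hF _ h) (by decide +kernel))
    (by rw [← map_mul, ← F.map_one]; exact hFF _ _ (by decide +kernel))
    (fun h => absurd (hF _ h) (by decide +kernel))
    (by rw [← map_mul, ← F.map_one]; exact hFF _ _ (by decide +kernel))
    (fun h => absurd (hF _ h) (by decide +kernel))
    (by rw [← map_mul, ← F.map_one]; exact hFF _ _ (by decide +kernel))
    (fun h => absurd (hF _ h) (by decide +kernel))
    (by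
      rw [← map_mul, ← π.map_one]
      refine congrArg π (Subtype.ext ?_)
      change C.kH (swap 2 3) * C.kH (swap 2 3) = 1
      rw [← map_mul, show (swap 2 3 : Perm (Fin 5)) * swap 2 3 = 1 by decide +kernel, map_one])
    (fun h => by
      rcases (hπ _).mp h with h' | h'
      · exact absurd (C.kH_inj (h'.trans C.kH.map_one.symm)) (by decide +kernel)
      · exact absurd (C.kH_inj (h'.trans hI)) (by decide +kernel))
    (fun h => by
      rw [MonoidHom.comp_apply, ← mul_inv_eq_one, ← map_inv, ← map_mul, hπ] at h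
      have e : ((T * ((C.fH.codRestrict _ hf) u5)⁻¹ : centralizer ({C.r} : Set G)) : G) =
          C.kH (swap 2 3 * u5⁻¹) := by
        change C.kH (swap 2 3) * (C.fH u5)⁻¹ = _
        rw [C.fH_u5, ← C.kH_u5, ← map_inv, ← map_mul]
      rw [e] at h
      rcases h with h' | h'
      · exact absurd (C.kH_inj (h'.trans C.kH.map_one.symm)) (by decide +kernel)
      · exact absurd (C.kH_inj (h'.trans hI)) (by decide +kernel))
    (by simp only [← map_mul]; exact hFF _ _ (by decide +kernel))
    (by simp only [← map_mul]; exact hFF _ _ (by decide +kernel))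
    (by simp only [← map_mul]; exact hFF _ _ (by decide +kernel))
    (by simp only [← map_mul]; exact hFF _ _ (by decide +kernel))
    (by simp only [← map_mul]; exact hFF _ _ (by decide +kernel))
    (by simp only [← map_mul]; exact hFF _ _ (by decide +kernel))
    (hcomm _ (by rw [C.fH_p5 hI]; exact C.kH_commute _ _))
    (hcomm _ (by
      rw [f5_table.1, map_mul, map_mul, map_inv, C.fH_c5, C.fH_p5 hI, ← map_inv, ← map_mul,
        ← map_mul, show dM 1 0 * ((swap 0 1, 1) : M) * (dM 1 0)⁻¹ =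
          ((c3 * swap 0 1 * c3⁻¹, 1) : M) by decide +kernel]
      exact C.kH_commute _ _))
    (by
      rw [MonoidHom.comp_apply]
      simp only [← map_mul]
      refine congrArg π (Subtype.ext ?_)
      change C.fH u5 * C.kH (swap 2 3) * C.fH u5 = C.kH (swap 2 3) * C.fH u5 * C.kH (swap 2 3)
      rw [C.fH_u5, ← C.kH_u5, ← map_mul, ← map_mul, ← map_mul, ← map_mul]
      exact congrArg C.kH (by decide +kernel))
  have fin : ∀ (m : Fin 5), (m = 3 ∨ m = 4) → ∀ S : centralizer ({C.r} : Set G),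
      (S : G) = C.kH (swap 2 m) → F (swap 2 3) * π S = π S * F (swap 2 3) →
      Commute (C.fH (swap 2 3)) (C.kH (swap 2 m)) := by
    intro m hm S hS h
    rw [MonoidHom.comp_apply, ← map_mul, ← map_mul, ← mul_inv_eq_one, ← map_inv, ← map_mul, hπ] at h
    simp only [Subgroup.coe_mul, Subgroup.coe_inv] at h
    change C.fH (swap 2 3) * S * (S * C.fH (swap 2 3))⁻¹ = 1 ∨
      C.fH (swap 2 3) * S * (S * C.fH (swap 2 3))⁻¹ = C.r at h
    rw [hS] at h
    rcases h with h' | h'
    · exact mul_inv_eq_one.mp h'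
    · exfalso
      obtain ⟨hsign, b, hb⟩ := f5_table.2.2.2.2 m hm
      refine C.conj_u_ne_kH (C.fH (swap 2 3) * C.kH b) hsign ?_
      have hk2 : C.kH (b * u5 * b⁻¹) = C.kH b * C.u * (C.kH b)⁻¹ := by
        rw [map_mul, map_mul, map_inv, C.kH_u5]
      calc C.fH (swap 2 3) * C.kH b * C.u * (C.fH (swap 2 3) * C.kH b)⁻¹
          = C.fH (swap 2 3) * (C.kH b * C.u * (C.kH b)⁻¹) * (C.fH (swap 2 3))⁻¹ := by group
        _ = C.fH (swap 2 3) * C.kH (swap 2 m) * (C.kH (swap 2 m) * C.fH (swap 2 3))⁻¹ *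
              C.kH (swap 2 m) := by rw [← hk2, hb]; group
        _ = _ := by rw [h', hI, ← map_mul]
  rcases key with h | h
  · exact ⟨3, Or.inl rfl, fin 3 (Or.inl rfl) T rfl h⟩
  · refine ⟨4, Or.inr rfl, fin 4 (Or.inr rfl) (U * T * U) ?_ ?_⟩
    · change C.fH u5 * C.kH (swap 2 3) * C.fH u5 = _
      rw [C.fH_u5, ← C.kH_u5, ← map_mul, ← map_mul, f5_table.2.2.2.1]
    · rw [map_mul π, map_mul π]
      exact h

/-- The homomorphism from the symmetric group of degree eight. -/
theorem exists_theta (hI : C.r = C.kH p5) :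
    ∃ Θ : Perm (Fin 8) →* G, Function.Injective Θ ∧ Θ (swap 3 4) = C.u ∧ Θ (swap 0 1) = C.s ∧
      Θ (swap 6 7) = C.r ∧ Θ (swap 0 1 * swap 1 2) = C.z ∧ Θ (swap 6 7 * swap 5 6) = C.w ∧
      ∀ x, C.kH x ∈ Θ.range := by
  obtain ⟨m, hm, hcm⟩ := C.cross hI
  let t : ℕ → G := fun i =>
    [C.fH p5, C.fH (swap 1 2), C.fH (swap 2 3), C.kH u5, C.kH (swap 2 m), C.kH (swap 1 2),
      C.kH p5].getD i 1
  have hff : ∀ x y : Perm (Fin 5), (x * y) ^ 2 = 1 → (C.fH x * C.fH y) ^ 2 = 1 := fun x y h => by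
    rw [← map_mul, ← map_pow, h, map_one]
  have hkk : ∀ x y : Perm (Fin 5), (x * y) ^ 2 = 1 → (C.kH x * C.kH y) ^ 2 = 1 := fun x y h => by
    rw [← map_mul, ← map_pow, h, map_one]
  have hfk : ∀ x y : Perm (Fin 5), x * x = 1 → y * y = 1 → Commute (C.fH x) (C.kH y) →
      (C.fH x * C.kH y) ^ 2 = 1 := fun x y hx hy h => by
    rw [h.mul_pow, pow_two, pow_two, ← map_mul, ← map_mul, hx, hy, map_one, map_one, one_mul]
  have hk01 : ∀ y, Commute (C.fH p5) (C.kH y) := fun y => by
    rw [C.fH_p5 hI]; exact C.kH_commute _ _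
  have hk12 : ∀ y, Commute (C.fH (swap 1 2)) (C.kH y) := fun y => by
    rw [f5_table.1, map_mul, map_mul, map_inv, C.fH_c5, C.fH_p5 hI, ← map_inv, ← map_mul,
      ← map_mul, show dM 1 0 * ((swap 0 1, 1) : M) * (dM 1 0)⁻¹ =
        ((c3 * swap 0 1 * c3⁻¹, 1) : M) by decide +kernel]
    exact C.kH_commute _ _
  have hfr : Commute (C.fH (swap 2 3)) (C.kH p5) := hI ▸ (C.r_fH _).symm
  have hfw : Commute (C.fH (swap 2 3)) (C.kH c5) := by
    have h := commute_conj (C.kH_commute c3 (swap 2 3)).symm C.n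
    rw [C.n_inv] at h
    have e : C.n * C.ι (c3, 1) * C.n = C.kH c5 := by
      rw [C.kH_apply]
      exact C.n_z
    rw [e, C.kH_apply, ← C.fH_apply] at h
    exact h
  have hf12 : Commute (C.fH (swap 2 3)) (C.kH (swap 1 2)) := by
    rw [f5_table.1, map_mul, map_mul, map_inv]
    exact (hfw.mul_right hfr).mul_right hfw.inv_right
  have hu : C.fH u5 = C.kH u5 := by rw [C.fH_u5, C.kH_u5]
  have hm2 : (swap 2 m : Perm (Fin 5)) * swap 2 m = 1 := swap_mul_self 2 m
  have hchain : CfsgLib.CoxeterA.Chain 7 t := by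
    refine ⟨fun i hi => ?_, fun i hi => ?_, fun i j hij hj => ?_⟩
    · interval_cases i <;> simp only [t, List.getD_cons_zero, List.getD_cons_succ] <;>
        rw [← map_mul, show ∀ (φ : Perm (Fin 5) →* G) (x : Perm (Fin 5)), x = 1 → φ x = 1 from
          fun φ x h => h ▸ φ.map_one]
      all_goals first | exact hm2 | decide +kernel
    · replace hi : i < 6 := by omega
      interval_cases i <;> simp only [t, List.getD_cons_zero, List.getD_cons_succ]
      · rw [← map_mul, ← map_pow, show ((p5 * swap 1 2 : Perm (Fin 5))) ^ 3 = 1 by decide +kernel,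
          map_one]
      · rw [← map_mul, ← map_pow, show ((swap 1 2 * swap 2 3 : Perm (Fin 5))) ^ 3 = 1 by
          decide +kernel, map_one]
      · rw [← hu, ← map_mul, ← map_pow, show ((swap 2 3 * u5 : Perm (Fin 5))) ^ 3 = 1 by
          decide +kernel, map_one]
      · rw [← map_mul, ← map_pow, show ((u5 * swap 2 m : Perm (Fin 5))) ^ 3 = 1 by
          rcases hm with rfl | rfl <;> decide +kernel, map_one]
      · rw [← map_mul, ← map_pow, show ((swap 2 m * swap 1 2 : Perm (Fin 5))) ^ 3 = 1 by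
          rcases hm with rfl | rfl <;> decide +kernel, map_one]
      · rw [← map_mul, ← map_pow, show ((swap 1 2 * p5 : Perm (Fin 5))) ^ 3 = 1 by decide +kernel,
          map_one]
    · have hi5 : i < 5 := by omega
      interval_cases i <;> interval_cases j <;>
        simp only [t, List.getD_cons_zero, List.getD_cons_succ]
      all_goals first
        | exact hfk _ _ (by decide +kernel) (by first | exact hm2 | decide +kernel) (hk01 _)
        | exact hfk _ _ (by decide +kernel) (by first | exact hm2 | decide +kernel) (hk12 _)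
        | exact hfk _ _ (by decide +kernel) hm2 hcm
        | exact hfk _ _ (by decide +kernel) (by decide +kernel) hfr
        | exact hfk _ _ (by decide +kernel) (by decide +kernel) hf12
        | exact hff _ _ (by decide +kernel)
        | exact hkk _ _ (by decide +kernel)
        | (rw [← hu]; exact hff _ _ (by decide +kernel))
        | exact hkk _ _ (by rcases hm with rfl | rfl <;> decide +kernel)
  obtain ⟨Θ, hΘ⟩ := CfsgLib.CoxeterA.exists_permHom 7 t hchain
  have h0 : Θ (swap 0 1) = C.fH p5 := by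
    have := hΘ 0; simpa [t] using this
  have h1 : Θ (swap 1 2) = C.fH (swap 1 2) := by
    have := hΘ 1; simpa [t] using this
  have h3 : Θ (swap 3 4) = C.kH u5 := by
    have := hΘ 3; simpa [t] using this
  have h4 : Θ (swap 4 5) = C.kH (swap 2 m) := by
    have := hΘ 4; simpa [t] using this
  have h5 : Θ (swap 5 6) = C.kH (swap 1 2) := by
    have := hΘ 5; simpa [t] using this
  have h6 : Θ (swap 6 7) = C.kH p5 := by
    have := hΘ 6; simpa [t] using this
  have hz : Θ (swap 0 1 * swap 1 2) = C.z := by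
    rw [map_mul, h0, h1, ← map_mul, ← C.fH_c5]
    rfl
  refine ⟨Θ, ?_, h3.trans C.kH_u5, h0.trans (C.fH_p5 hI), h6.trans hI.symm, hz, ?_, ?_⟩
  · exact injective_of_ne Θ (swap 0 1 * swap 1 2) (by decide +kernel) (by
      rw [hz]; exact fun e => absurd (C.inj (e.trans C.ι.map_one.symm)) (by decide +kernel))
  · rw [map_mul, h6, h5, ← map_mul]
    rfl
  · intro x
    have hle : Subgroup.closure (CfsgLib.CoxeterA.adjSwap 4 '' Set.Iio 4) ≤ Θ.range.comap C.kH := by
      rw [closure_le]
      rintro _ ⟨i, hi, rfl⟩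
      have hi' : i < 4 := hi
      have h23 : C.kH (swap 2 3) ∈ Θ.range := by
        rcases hm with rfl | rfl
        · exact ⟨_, h4⟩
        · have e : (swap 2 3 : Perm (Fin 5)) = u5 * swap 2 4 * u5 := by decide +kernel
          rw [e, map_mul, map_mul]
          exact mul_mem (mul_mem ⟨_, h3⟩ ⟨_, h4⟩) ⟨_, h3⟩
      rw [SetLike.mem_coe, mem_comap]
      interval_cases i
      · exact ⟨_, h6⟩
      · exact ⟨_, h5⟩
      · exact h23
      · exact ⟨_, h3⟩
    rw [CfsgLib.CoxeterA.closure_adjSwap] at hle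
    exact hle (mem_top x)

end Config

end CfsgLib.SymEight40
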